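import Cfsg.Agent.Known.ClassNumberSU.Classes
import Cfsg.Agent.Known.UnitarySemisimple
import Cfsg.Agent.Known.DualCount
import Mathlib

/-! The bounds for the class number of the special unitary group. -/

set_option autoImplicit false
set_option linter.style.haveILetI false

open Polynomial Matrix

namespace Cfsg.Lib.ClassNumberSU

open UnitaryConj DualPoly

universe u

/-- The divisors contributing to the correction term. -/
def badDiv (q n : ℕ) : Finset ℕ := (Finset.Icc 2 n).filter fun d => d ∣ n ∧ d ∣ q + 1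

theorem sum_pats_le (q n : ℕ) (hn : 1 ≤ n) :
    ∑ k ∈ pats n n, patGcd q k ^ 2 * ∏ i, sdNum q (k i) ≤
      total q n n + ∑ d ∈ badDiv q n, d ^ 2 * total q (n / d) (n / d) := by
  classical
  have hdvd : ∀ (k : Fin n → ℕ) (i : Fin n), k i ≠ 0 → patGcd q k ∣ (i : ℕ) + 1 := fun k i hi =>
    (Nat.gcd_dvd_right _ _).trans (Finset.gcd_dvd (Finset.mem_filter.2 ⟨Finset.mem_univ i, hi⟩))
  have hn' : ∀ k ∈ pats n n, patGcd q k ∣ n := by
    intro k hk
    rw [mem_pats] at hk
    refine (Finset.dvd_sum fun i _ => ?_).trans (dvd_of_eq hk)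
    by_cases hi : k i = 0
    · simp [hi]
    · exact (hdvd k i hi).mul_right _
  rw [← Finset.sum_filter_add_sum_filter_not (pats n n) (fun k => patGcd q k = 1)]
  refine Nat.add_le_add ?_ ?_
  · refine le_trans (le_of_eq (Finset.sum_congr rfl fun k hk => ?_))
      (Finset.sum_le_sum_of_subset (Finset.filter_subset _ _))
    rw [(Finset.mem_filter.1 hk).2, one_pow, one_mul]
  have hmaps : ∀ k ∈ (pats n n).filter (fun k => ¬ patGcd q k = 1), patGcd q k ∈ badDiv q n := by
    intro k hk
    obtain ⟨hk, h1⟩ := Finset.mem_filter.1 hk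
    have := patGcd_pos q k
    rw [badDiv, Finset.mem_filter, Finset.mem_Icc]
    exact ⟨⟨by omega, Nat.le_of_dvd (by omega) (hn' k hk)⟩, hn' k hk, Nat.gcd_dvd_left _ _⟩
  rw [← Finset.sum_fiberwise_of_maps_to hmaps]
  refine Finset.sum_le_sum fun d hd => ?_
  rw [badDiv, Finset.mem_filter, Finset.mem_Icc] at hd
  obtain ⟨⟨hd2, -⟩, hdn, -⟩ := hd
  have hd0 : 0 < d := by omega
  set S := ((pats n n).filter (fun k => ¬ patGcd q k = 1)).filter (fun k => patGcd q k = d) with hS
  have hlt : ∀ i : Fin (n / d), d * ((i : ℕ) + 1) - 1 < n := fun i => by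
    have h1 := Nat.mul_le_mul_left d (Nat.succ_le_of_lt i.isLt)
    rw [Nat.mul_div_cancel' hdn, Nat.succ_eq_add_one] at h1
    have : 1 ≤ d * ((i : ℕ) + 1) := Nat.mul_pos hd0 (by omega)
    omega
  let emb : Fin (n / d) → Fin n := fun i => ⟨d * ((i : ℕ) + 1) - 1, hlt i⟩
  have hembv : ∀ i, (emb i : ℕ) + 1 = d * ((i : ℕ) + 1) := fun i => by
    have : 1 ≤ d * ((i : ℕ) + 1) := Nat.mul_pos hd0 (by omega)
    simp only [emb]
    omega
  have hemb : Function.Injective emb := fun i j h => by
    have h1 := hembv i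
    rw [h, hembv] at h1
    exact Fin.ext (by have := Nat.eq_of_mul_eq_mul_left hd0 h1; omega)
  have hsupp : ∀ k ∈ S, ∀ j, j ∉ Finset.univ.image emb → k j = 0 := by
    intro k hk j hj
    by_contra hne
    apply hj
    have hdj : d ∣ (j : ℕ) + 1 := (Finset.mem_filter.1 hk).2 ▸ hdvd k j hne
    obtain ⟨c, hc⟩ := hdj
    have hc1 : 1 ≤ c := Nat.pos_of_ne_zero (by rintro rfl; simp at hc)
    have hc2 : c ≤ n / d := (Nat.le_div_iff_mul_le hd0).2 (by
      have := j.isLt
      rw [mul_comm]; omega)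
    refine Finset.mem_image.2 ⟨⟨c - 1, by omega⟩, Finset.mem_univ _, Fin.ext ?_⟩
    simp only [emb]
    rw [Nat.sub_add_cancel hc1, ← hc]
    omega
  have hprod : ∀ k ∈ S, ∏ i, sdNum q (k i) = ∏ i, sdNum q (k (emb i)) := by
    intro k hk
    rw [← Finset.prod_image (f := fun j => sdNum q (k j)) (g := emb) hemb.injOn]
    refine (Finset.prod_subset (Finset.subset_univ _) fun j _ hj => ?_).symm
    rw [hsupp k hk j hj, sdNum]
  have e : ∀ k ∈ S, patGcd q k ^ 2 * ∏ i, sdNum q (k i) = d ^ 2 * ∏ i, sdNum q (k (emb i)) := by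
    intro k hk
    rw [hprod k hk, (Finset.mem_filter.1 hk).2]
  rw [Finset.sum_congr rfl e, ← Finset.mul_sum, total]
  refine Nat.mul_le_mul_left _ ?_
  refine le_trans (le_of_eq (Finset.sum_image (f := fun k : Fin (n / d) → ℕ => ∏ i, sdNum q (k i))
    (g := fun k : Fin n → ℕ => fun i => k (emb i)) ?_).symm) (Finset.sum_le_sum_of_subset ?_)
  · intro k hk k' hk' h
    funext j
    by_cases hj : j ∈ Finset.univ.image emb
    · obtain ⟨i, -, rfl⟩ := Finset.mem_image.1 hj
      exact congrFun h i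
    · rw [hsupp k hk j hj, hsupp k' hk' j hj]
  · intro x hx
    obtain ⟨k, hk, rfl⟩ := Finset.mem_image.1 hx
    rw [mem_pats]
    have hw := mem_pats.1 (Finset.mem_filter.1 (Finset.mem_filter.1 hk).1).1
    have h2 : ∑ i : Fin (n / d), ((emb i : ℕ) + 1) * k (emb i) = n := by
      rw [← Finset.sum_image (f := fun j : Fin n => ((j : ℕ) + 1) * k j) (g := emb) hemb.injOn]
      refine (Finset.sum_subset (Finset.subset_univ _) fun j _ hj => ?_).trans hw
      rw [hsupp k hk j hj, mul_zero]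
    simp only [hembv, mul_assoc, ← Finset.mul_sum] at h2
    exact (Nat.mul_div_cancel_left _ hd0).symm.trans (by rw [h2])

theorem exp_le {m d n : ℕ} (hm : 1 ≤ m) (hd : 2 ≤ d) (h : m * d = n) : m + (d - 1) ≤ n := by
  obtain ⟨e, rfl⟩ := Nat.exists_eq_add_of_le' hd
  have := Nat.mul_le_mul_right (e + 1) hm
  rw [show e + 2 - 1 = e + 1 by omega]
  nlinarith

theorem numeric (q n : ℕ) (hq : 2 ≤ q) (hn : 2 ≤ n) :
    100 * (total q n n + ∑ d ∈ badDiv q n, d ^ 2 * total q (n / d) (n / d)) ≤
      826 * ((q + 1) * q ^ (n - 1)) := by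
  have hgoal : (total q n n : ℚ) + ∑ d ∈ badDiv q n, (d : ℚ) ^ 2 * total q (n / d) (n / d) ≤
      826 / 100 * (1 + 1 / (q : ℚ)) * (q : ℚ) ^ n := by
    have hq0 : (0 : ℚ) < q := by exact_mod_cast (by omega : 0 < q)
    have hq1 : (1 : ℚ) ≤ q := by exact_mod_cast (by omega : 1 ≤ q)
    have htot : ∀ P : ℚ, (∀ K, 1 ≤ K → coef q K ≤ P) → ∀ m, 1 ≤ m → (total q m m : ℚ) ≤ P * (q : ℚ) ^ m :=
      fun P hP m hm => (total_le q hq m m).trans (mul_le_mul_of_nonneg_right (hP m hm) (by positivity))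
    have hdiv : ∀ d ∈ badDiv q n, 1 ≤ n / d ∧ n / d * d = n ∧ 2 ≤ d ∧ d ∣ q + 1 := by
      intro d hd
      rw [badDiv, Finset.mem_filter, Finset.mem_Icc] at hd
      exact ⟨(Nat.one_le_div_iff (by omega)).2 hd.1.2, Nat.div_mul_cancel hd.2.1, hd.1.1, hd.2.2⟩
    rcases eq_or_lt_of_le hq with rfl | hq3
    · have hsub : badDiv 2 n ⊆ {3} := fun d hd => by
        obtain ⟨-, -, h2, h3⟩ := hdiv d hd
        have := Nat.le_of_dvd (by norm_num) h3
        rw [Finset.mem_singleton]
        interval_cases d <;> omega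
      have hA := htot _ coef_two n (by omega)
      rcases Finset.subset_singleton_iff.1 hsub with he | he
      · rw [he, Finset.sum_empty, add_zero]
        refine hA.trans (mul_le_mul_of_nonneg_right ?_ (by positivity))
        norm_num
      · obtain ⟨hm, hm3, -, -⟩ := hdiv 3 (by rw [he]; exact Finset.mem_singleton_self 3)
        rw [he, Finset.sum_singleton]
        rcases le_or_gt 3 (n / 3) with h3 | h3
        · have hB := htot _ coef_two (n / 3) hm
          have : ((2 : ℕ) : ℚ) ^ n = ((2 : ℕ) : ℚ) ^ (n / 3) * ((2 : ℕ) : ℚ) ^ (2 * (n / 3)) := by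
            rw [← pow_add]; congr 1; omega
          have h64 : (64 : ℚ) ≤ ((2 : ℕ) : ℚ) ^ (2 * (n / 3)) := by
            refine le_trans (by norm_num) (pow_le_pow_right₀ (by norm_num) (by omega : 6 ≤ 2 * (n / 3)))
          have hp : (0 : ℚ) < ((2 : ℕ) : ℚ) ^ (n / 3) := by positivity
          calc _ ≤ 83 / 10 * ((2 : ℕ) : ℚ) ^ n + ((3 : ℕ) : ℚ) ^ 2 * (83 / 10 * ((2 : ℕ) : ℚ) ^ (n / 3)) :=
                add_le_add hA (mul_le_mul_of_nonneg_left hB (by positivity))
            _ ≤ _ := by rw [this]; push_cast at *; nlinarith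
        · have hn36 : n = 3 ∨ n = 6 := by omega
          have hB := total_le 2 le_rfl (n / 3) (n / 3)
          have hA' := total_le 2 le_rfl n n
          have c1 : coef 2 1 = 3 / 2 := by norm_num [coef]
          have c2 : coef 2 2 = 15 / 4 := by norm_num [coef]
          have c3 : coef 2 3 = 45 / 8 := by norm_num [coef]
          rcases hn36 with rfl | rfl
          · rw [show (3 : ℕ) / 3 = 1 from rfl, c1] at hB
            rw [c3] at hA'
            rw [show (3 : ℕ) / 3 = 1 from rfl]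
            push_cast at *
            linarith
          · rw [show (6 : ℕ) / 3 = 2 from rfl, c2] at hB
            rw [show (6 : ℕ) / 3 = 2 from rfl]
            push_cast at *
            linarith
    rcases eq_or_lt_of_le (show 3 ≤ q from hq3) with rfl | hq4
    · have hsub : badDiv 3 n ⊆ {2, 4} := fun d hd => by
        obtain ⟨-, -, h2, h3⟩ := hdiv d hd
        have := Nat.le_of_dvd (by norm_num) h3
        interval_cases d <;> first | omega | simp
      have hA := htot _ coef_three n (by omega)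
      have hterm : ∀ d ∈ badDiv 3 n, (d : ℚ) ^ 2 * total 3 (n / d) (n / d) ≤
          (d : ℚ) ^ 2 * 3 / (3 : ℚ) ^ (d - 1) * (3 : ℚ) ^ n := by
        intro d hd
        obtain ⟨hm, hmd, h2, -⟩ := hdiv d hd
        have hB := htot _ coef_three (n / d) hm
        rw [mul_div_assoc, mul_assoc]
        refine mul_le_mul_of_nonneg_left (hB.trans ?_) (by positivity)
        rw [div_mul_eq_mul_div, le_div_iff₀ (by positivity)]
        push_cast
        rw [mul_assoc, ← pow_add]
        refine mul_le_mul_of_nonneg_left (pow_le_pow_right₀ (by norm_num) ?_) (by norm_num)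
        exact exp_le hm h2 hmd
      refine le_trans (add_le_add hA ((Finset.sum_le_sum hterm).trans
        (Finset.sum_le_sum_of_subset_of_nonneg hsub fun d _ _ => by positivity))) ?_
      rw [Finset.sum_pair (by norm_num)]
      push_cast
      have : (0 : ℚ) < 3 ^ n := by positivity
      norm_num
      linarith
    · have hA := htot _ (coef_ge_four q (show 4 ≤ q from hq4)) n (by omega)
      have hterm : ∀ d ∈ badDiv q n, (d : ℚ) ^ 2 * total q (n / d) (n / d) ≤
          (d : ℚ) ^ 2 / (4 : ℚ) ^ (d - 1) * (5 / 2 * (q : ℚ) ^ n) := by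
        intro d hd
        obtain ⟨hm, hmd, h2, -⟩ := hdiv d hd
        have hB := htot _ (coef_ge_four q (show 4 ≤ q from hq4)) (n / d) hm
        rw [div_mul_eq_mul_div, le_div_iff₀ (by positivity), mul_assoc]
        refine mul_le_mul_of_nonneg_left ?_ (by positivity)
        refine (mul_le_mul hB (pow_le_pow_left₀ (by norm_num) (show (4 : ℚ) ≤ (q : ℚ) by exact_mod_cast (show 4 ≤ q from hq4)) (d - 1)) (by positivity)
          (by positivity)).trans ?_
        rw [mul_assoc, ← pow_add]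
        refine mul_le_mul_of_nonneg_left (pow_le_pow_right₀ hq1 ?_) (by norm_num)
        exact exp_le hm h2 hmd
      have hgeo : ∀ N : ℕ, ∑ d ∈ Finset.Icc 2 N, (d : ℚ) ^ 2 / (4 : ℚ) ^ (d - 1) ≤ 9 / 4 - 9 / 2 * (1 / 2) ^ (max N 1) := by
        intro N
        induction N with
        | zero => norm_num
        | succ N ih =>
          rcases Nat.eq_zero_or_pos N with rfl | hN
          · norm_num
          rw [Finset.sum_Icc_succ_top (by omega), max_eq_left (by omega : 1 ≤ N + 1)]
          rw [max_eq_left (by omega : 1 ≤ N)] at ih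
          have hd : ∀ m : ℕ, 8 * (m + 1) ^ 2 ≤ 9 * 2 ^ (m + 1) := by
            intro m
            rcases lt_or_ge m 3 with h | h
            · interval_cases m <;> norm_num
            · induction m, h using Nat.le_induction with
              | base => norm_num
              | succ m hm ihm => rw [pow_succ (2 : ℕ)]; nlinarith
          have hd' : 8 * ((N : ℚ) + 1) ^ 2 ≤ 9 * 2 ^ (N + 1) := by exact_mod_cast hd N
          have hterm : ((N + 1 : ℕ) : ℚ) ^ 2 / (4 : ℚ) ^ (N + 1 - 1) ≤ 9 / 2 * (1 / 2) ^ (N + 1) := by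
            rw [div_le_iff₀ (by positivity), Nat.add_sub_cancel, show (4 : ℚ) ^ N = 2 ^ N * 2 ^ N by rw [← mul_pow]; norm_num,
              div_pow, one_pow]
            push_cast
            rw [pow_succ (2 : ℚ)] at hd' ⊢
            field_simp
            nlinarith [mul_le_mul_of_nonneg_right hd' (pow_nonneg (show (0 : ℚ) ≤ 2 by norm_num) N)]
          rw [pow_succ (1 / 2 : ℚ)] at hterm ⊢
          linarith
      refine le_trans (add_le_add hA ((Finset.sum_le_sum hterm).trans
        (Finset.sum_le_sum_of_subset_of_nonneg (Finset.filter_subset _ _) fun d _ _ => by positivity))) ?_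
      rw [← Finset.sum_mul]
      have hs := hgeo n
      have h1 : (0 : ℚ) ≤ 9 / 2 * (1 / 2) ^ (max n 1) := by positivity
      have hqn : (0 : ℚ) < (q : ℚ) ^ n := by positivity
      have h2 : (0 : ℚ) ≤ 1 / (q : ℚ) := by positivity
      nlinarith [mul_le_mul_of_nonneg_right (le_trans hs (sub_le_self _ h1)) hqn.le, mul_nonneg h2 hqn.le]
  have hq0 : (q : ℚ) ≠ 0 := by exact_mod_cast (by omega : q ≠ 0)
  rw [← Nat.cast_le (α := ℚ)]
  push_cast
  obtain ⟨m, rfl⟩ := Nat.exists_eq_add_of_le' (show 1 ≤ n by omega)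
  rw [Nat.add_sub_cancel]
  have e : (1 + 1 / (q : ℚ)) * (q : ℚ) ^ (m + 1) = ((q : ℚ) + 1) * (q : ℚ) ^ m := by
    field_simp; ring
  linarith [hgoal, e]

variable {K : Type u} [Field K] [Fintype K] {q n : ℕ}

theorem le_card_SU (hK : Fintype.card K = q ^ 2) (hn : 1 ≤ n) :
    q ^ (n - 1) ≤ Nat.card (ConjClasses (Cfsg.SU n K q)) := by
  classical
  obtain ⟨p, hp⟩ := CharP.exists K
  haveI : Fact p.Prime := ⟨CharP.char_is_prime K p⟩
  set σ := Classical.powConj hK with hσdef
  have hσ2 : ∀ a, σ (σ a) = a := invol hK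
  have hne := exists_moved hK
  set c : K := (-1) ^ n with hcdef
  have hc : σ c * c = 1 := by
    rw [hcdef, map_pow, map_neg, map_one, ← mul_pow, neg_one_mul, neg_neg, one_pow]
  obtain ⟨-, hcard⟩ := card_SD (σ := σ) (Nat.card_eq_fintype_card.trans hK) hσ2 hne (d := n - 1) hc
  rw [← hcard]
  have hex : ∀ f : SD σ (n - 1) c, ∃ g : Cfsg.SU n K q,
      ((g : Matrix.SpecialLinearGroup (Fin n) K) : Matrix (Fin n) (Fin n) K).charpoly = f.1 := by
    intro f
    have h0 : f.1.coeff 0 ≠ 0 := by rw [f.2.2.2.1]; exact pow_ne_zero _ (neg_ne_zero.2 one_ne_zero)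
    obtain ⟨A, hA, hAf⟩ := UnitarySemisimple.exists_ss (p := p) (n := n) f.1 f.2.1 (by rw [f.2.2.1]; omega) h0
    obtain ⟨x, hx, hxA⟩ := UnitarySemisimple.exists_unitary (p := p) hσ2 hne (by omega) hA (by
      rw [hAf]
      conv_lhs => rw [← f.2.2.2.2, ← hAf]
      rw [DualCount.dual_charpoly σ A ((Matrix.isUnit_iff_isUnit_det A).2 hA.isUnit_det),
        show cst σ A = (A.map σ)ᵀ from rfl, ← Matrix.transpose_nonsing_inv, Matrix.charpoly_transpose])
    have hxu : IsUnit x.det := isUnit_iff_ne_zero.2 hx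
    have hch : (x * A * x⁻¹).charpoly = f.1 := by
      obtain ⟨X, hX⟩ := (Matrix.isUnit_iff_isUnit_det x).2 hxu
      rw [← hX, Matrix.charpoly_units_conj, hAf]
    have hdet : (x * A * x⁻¹).det = 1 := by
      rw [Matrix.det_eq_sign_charpoly_coeff, hch, f.2.2.2.1, hcdef, Fintype.card_fin, ← mul_pow, neg_one_mul,
        neg_neg, one_pow]
    exact ⟨⟨⟨_, hdet⟩, (mem_SU hK _).2 hxA⟩, hch⟩
  choose g hg using hex
  refine Nat.card_le_card_of_injective (fun f => ConjClasses.mk (g f)) fun f f' h => Subtype.ext ?_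
  obtain ⟨y, hy⟩ := isConj_iff.1 (ConjClasses.mk_eq_mk_iff_isConj.1 h)
  rw [← hg f, ← hg f']
  let φ : Cfsg.SU n K q →* GL (Fin n) K := Matrix.SpecialLinearGroup.toGL.comp (Subgroup.subtype _)
  have e := congrArg (fun u : Cfsg.SU n K q => ((φ u : GL (Fin n) K) : Matrix (Fin n) (Fin n) K)) hy
  simp only [map_mul, map_inv, Units.val_mul] at e
  show ((φ (g f) : GL (Fin n) K) : Matrix (Fin n) (Fin n) K).charpoly =
    ((φ (g f') : GL (Fin n) K) : Matrix (Fin n) (Fin n) K).charpoly
  rw [← e, Matrix.coe_units_inv]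
  rw [Matrix.charpoly_units_conj]

theorem card_SU_bounds (hK : Fintype.card K = q ^ 2) (hn : 2 ≤ n) :
    q ^ (n - 1) ≤ Nat.card (ConjClasses (Cfsg.SU n K q)) ∧
      100 * Nat.card (ConjClasses (Cfsg.SU n K q)) ≤ 826 * q ^ (n - 1) := by
  refine ⟨le_card_SU hK (by omega), ?_⟩
  have hq : 2 ≤ q := by
    have := Fintype.one_lt_card (α := K)
    by_contra h
    interval_cases q <;> simp_all
  refine Nat.le_of_mul_le_mul_left ?_ (show 0 < q + 1 by omega)
  calc (q + 1) * (100 * Nat.card (ConjClasses (Cfsg.SU n K q)))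
      = 100 * ((q + 1) * Nat.card (ConjClasses (Cfsg.SU n K q))) := by ring
    _ ≤ 100 * (total q n n + ∑ d ∈ badDiv q n, d ^ 2 * total q (n / d) (n / d)) :=
        Nat.mul_le_mul_left _ ((card_SU_le hK (by omega)).trans (sum_pats_le q n (by omega)))
    _ ≤ 826 * ((q + 1) * q ^ (n - 1)) := numeric q n hq hn
    _ = _ := by ring

end Cfsg.Lib.ClassNumberSU
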