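import Cfsg.Agent.Known.ClassNumberSU.Duality
import Cfsg.Agent.Known.ClassNumberSL
import Cfsg.Agent.Known.UnitaryDescent
import Mathlib

/-! Determinants in the unitary centraliser, read off from the elementary divisors. -/

set_option autoImplicit false
set_option linter.style.haveILetI false

open Polynomial Matrix

namespace Cfsg.Lib.ClassNumberSU

open ClassNumberGL DivisorDet UnitaryConj DualPoly

universe u

variable {K : Type u} [Field K] {σ : K →+* K}

section Top

variable {g : K[X]} (hg : g.Monic)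

/-- The coefficient of highest index in the power basis of a monic polynomial. -/
noncomputable def top : AdjoinRoot g →ₗ[K] K :=
  (lcoeff K (g.natDegree - 1)).comp (AdjoinRoot.modByMonicHom hg)

theorem top_nondegenerate {y : AdjoinRoot g} (h : ∀ x, top hg (x * y) = 0) : y = 0 := by
  obtain ⟨f, rfl⟩ := AdjoinRoot.mk_surjective y
  by_contra hy
  have hr : f %ₘ g ≠ 0 := fun e => hy (AdjoinRoot.mk_eq_zero.2 ((modByMonic_eq_zero_iff_dvd hg).1 e))
  have hg1 : g ≠ 1 := by
    rintro rfl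
    exact hr (modByMonic_one f)
  have hlt : (f %ₘ g).natDegree < g.natDegree := natDegree_modByMonic_lt f hg hg1
  have h1 := h (AdjoinRoot.mk g (X ^ (g.natDegree - 1 - (f %ₘ g).natDegree)))
  rw [← map_mul, top, LinearMap.comp_apply, AdjoinRoot.modByMonicHom_mk, lcoeff_apply] at h1
  have hmod : (X ^ (g.natDegree - 1 - (f %ₘ g).natDegree) * f) %ₘ g =
      X ^ (g.natDegree - 1 - (f %ₘ g).natDegree) * (f %ₘ g) := by
    rw [mul_modByMonic, modByMonic_eq_self_iff hg |>.2]
    · rw [modByMonic_eq_self_iff hg |>.2]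
      rw [degree_X_pow, degree_eq_natDegree hg.ne_zero]
      exact_mod_cast (by omega : g.natDegree - 1 - (f %ₘ g).natDegree < g.natDegree)
    · rw [modByMonic_eq_self_iff hg |>.2 (by
        rw [degree_X_pow, degree_eq_natDegree hg.ne_zero]
        exact_mod_cast (by omega : g.natDegree - 1 - (f %ₘ g).natDegree < g.natDegree))]
      rw [degree_mul, degree_X_pow, degree_eq_natDegree hr, degree_eq_natDegree hg.ne_zero, ← Nat.cast_add]
      exact_mod_cast (by omega : g.natDegree - 1 - (f %ₘ g).natDegree + (f %ₘ g).natDegree < g.natDegree)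
  rw [hmod, coeff_X_pow_mul', if_pos (by omega),
    show g.natDegree - 1 - (g.natDegree - 1 - (f %ₘ g).natDegree) = (f %ₘ g).natDegree by omega] at h1
  exact hr (leadingCoeff_eq_zero.1 h1)

end Top

section Tau

/-- The condition for inversion of the root to be a semilinear map from one quotient to the other. -/
def InvRoot (σ : K →+* K) (a b : K[X]) : Prop :=
  IsUnit (AdjoinRoot.root a) ∧ b.eval₂ ((AdjoinRoot.of a).comp σ) (Ring.inverse (AdjoinRoot.root a)) = 0

theorem isUnit_root {a : K[X]} (h : a.coeff 0 ≠ 0) : IsUnit (AdjoinRoot.root a) := by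
  refine IsUnit.of_mul_eq_one (AdjoinRoot.mk a (-(C (a.coeff 0)⁻¹) * a.divX)) ?_
  rw [← AdjoinRoot.mk_X, ← map_mul, ← map_one (AdjoinRoot.mk a)]
  apply AdjoinRoot.mk_eq_mk.2
  refine ⟨-C (a.coeff 0)⁻¹, ?_⟩
  have e := X_mul_divX_add a
  have e1 : C (a.coeff 0)⁻¹ * C (a.coeff 0) = (1 : K[X]) := by rw [← C_mul, inv_mul_cancel₀ h, C_1]
  linear_combination (-C (a.coeff 0)⁻¹) * e + e1

theorem invRoot_of_dual (hσ : ∀ x, σ (σ x) = x) {a b : K[X]} (ha : a.Monic) (ha0 : a.coeff 0 ≠ 0)
    (hb : b = dual σ a) : InvRoot σ a b := by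
  subst hb
  have hu := isUnit_root ha0
  refine ⟨hu, ?_⟩
  have hm : (dual σ a).map σ = C (a.coeff 0)⁻¹ * a.reverse := by
    rw [dual, Polynomial.map_mul, Polynomial.map_C, map_inv₀, hσ]
    congr 1
    ext k
    rw [coeff_map, coeff_reverse, coeff_map, natDegree_map, hσ, coeff_reverse]
  rw [← eval₂_map, hm, eval₂_mul, eval₂_C]
  refine mul_eq_zero_of_right _ ?_
  have h1 := aeval_reverse (K := K) (AdjoinRoot.root a) (Ring.inverse (AdjoinRoot.root a))
    (Ring.inverse_mul_cancel _ hu) (Commute.all _ _) a.reverse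
  rw [← AdjoinRoot.algebraMap_eq, ← aeval_def]
  have hrr : a.reverse.reverse = a := by
    ext k
    rw [coeff_reverse, coeff_reverse, reverse_natDegree, natTrailingDegree_eq_zero.2 (Or.inr ha0), Nat.sub_zero,
      revAt_invol]
  rw [hrr, AdjoinRoot.aeval_eq, AdjoinRoot.mk_self] at h1
  exact ((hu.pow _).mul_left_eq_zero).1 h1

variable {a b : K[X]}

/-- Conjugate the coefficients and invert the root. -/
noncomputable def tau (h : InvRoot σ a b) : AdjoinRoot b →+* AdjoinRoot a :=
  AdjoinRoot.lift ((AdjoinRoot.of a).comp σ) (Ring.inverse (AdjoinRoot.root a)) h.2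

theorem tau_of (h : InvRoot σ a b) (x : K) : tau h (AdjoinRoot.of b x) = AdjoinRoot.of a (σ x) :=
  AdjoinRoot.lift_of h.2

theorem tau_root (h : InvRoot σ a b) : tau h (AdjoinRoot.root b) = Ring.inverse (AdjoinRoot.root a) :=
  AdjoinRoot.lift_root h.2

theorem root_mul_tau (h : InvRoot σ a b) : AdjoinRoot.root a * tau h (AdjoinRoot.root b) = 1 := by
  rw [tau_root, Ring.mul_inverse_cancel _ h.1]

theorem tau_smul (h : InvRoot σ a b) (x : K) (y : AdjoinRoot b) : tau h (x • y) = σ x • tau h y := by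
  rw [Algebra.smul_def, Algebra.smul_def, map_mul, AdjoinRoot.algebraMap_eq, AdjoinRoot.algebraMap_eq, tau_of]

theorem tau_tau (hσ : ∀ x, σ (σ x) = x) {c : K[X]} (h : InvRoot σ a b) (h' : InvRoot σ b c) (hc : c = a)
    (x : AdjoinRoot a) : tau h (tau h' (hc ▸ x)) = x := by
  subst hc
  have key : (tau h).comp (tau h') = RingHom.id (AdjoinRoot c) := by
    refine Ideal.Quotient.ringHom_ext (Polynomial.ringHom_ext (fun y => ?_) ?_)
    · show tau h (tau h' (AdjoinRoot.of c y)) = AdjoinRoot.of c y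
      rw [tau_of, tau_of, hσ]
    · show tau h (tau h' (AdjoinRoot.root c)) = AdjoinRoot.root c
      have e2 : tau h (AdjoinRoot.root b) * tau h (tau h' (AdjoinRoot.root c)) = 1 := by
        rw [← map_mul, root_mul_tau, map_one]
      exact (left_inv_eq_right_inv (root_mul_tau h) e2).symm
  exact RingHom.congr_fun key x

end Tau

variable {ι : Type u} (g : ι → K[X]) (π : ι → ι)

/-- Semilinear identifications of paired blocks. -/
noncomputable def twist (h : ∀ j, InvRoot σ (g j) (g (π j))) (v : (j : ι) → AdjoinRoot (g j)) :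
    (j : ι) → AdjoinRoot (g j) :=
  fun j => tau (h j) (v (π j))

theorem twist_twist (hσ : ∀ x, σ (σ x) = x) (h : ∀ j, InvRoot σ (g j) (g (π j))) (hπ : ∀ j, π (π j) = j)
    (v : (j : ι) → AdjoinRoot (g j)) : twist g π h (twist g π h v) = v := by
  funext j
  show tau (h j) (tau (h (π j)) (v (π (π j)))) = v j
  have : ∀ k, k = j → ∀ h' : InvRoot σ (g (π j)) (g k), tau (h j) (tau h' (v k)) = v j := by
    rintro k rfl h'
    exact tau_tau hσ (h k) h' rfl (v k)
  exact this _ (hπ j) (h (π j))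

theorem twist_mul (h : ∀ j, InvRoot σ (g j) (g (π j))) (v w : (j : ι) → AdjoinRoot (g j)) :
    twist g π h (v * w) = twist g π h v * twist g π h w :=
  funext fun j => map_mul (tau (h j)) _ _

variable [Fintype ι] [Fintype K]

/-- Every norm one power determinant occurs in the unitary centraliser. -/
theorem exists_det (hσ : ∀ a, σ (σ a) = a) (hne : ∃ a, σ a ≠ a) {n : ℕ} (hn : 0 < n)
    (A : Matrix (Fin n) (Fin n) K) (hA : cst σ A * A = 1) {P : ι → K[X]} {e : ι → ℕ} (hd : IsDivisors n P e)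
    (Ω : Module.AEval' (Matrix.toLin' A) ≃ₗ[K[X]] ((j : ι) → K[X] ⧸ Ideal.span {P j ^ e j}))
    (hπ : ∀ j, π (π j) = j) (hπ' : ∀ j, e (π j) = e j ∧ P (π j) = dual σ (P j)) (j₀ : ι) (δ : K)
    (hδ : σ δ * δ = 1) :
    ∃ D : Matrix (Fin n) (Fin n) K, cst σ D * D = 1 ∧ D * A = A * D ∧ D.det = δ ^ e j₀ := by
  classical
  haveI : Nonempty (Fin n) := ⟨⟨0, hn⟩⟩
  let g : ι → K[X] := fun j => P j ^ e j
  have hgm : ∀ j, (g j).Monic := fun j => (hd.1 j).1.pow _
  have hg0 : ∀ j, (g j).coeff 0 ≠ 0 := fun j => by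
    show (P j ^ e j).coeff 0 ≠ 0
    rw [coeff_zero_eq_eval_zero, eval_pow, ← coeff_zero_eq_eval_zero]
    exact pow_ne_zero _ (hd.1 j).2.2.1
  have hgd : ∀ j, g (π j) = dual σ (g j) := fun j => by
    show P (π j) ^ e (π j) = dual σ (P j ^ e j)
    rw [(hπ' j).1, (hπ' j).2, dual_pow]
  have hinv : ∀ j, InvRoot σ (g j) (g (π j)) := fun j => invRoot_of_dual hσ (hgm j) (hg0 j) (hgd j)
  haveI : ∀ j, Module.Finite K (AdjoinRoot (g j)) := fun j => (hgm j).finite_adjoinRoot
  let τ := twist g π hinv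
  have hτadd : ∀ v w, τ (v + w) = τ v + τ w := fun v w => funext fun j => map_add (tau (hinv j)) _ _
  have hτsmul : ∀ (x : K) v, τ (x • v) = σ x • τ v := fun x v => funext fun j => tau_smul (hinv j) x _
  have hττ : ∀ c, τ (τ c) = c := fun c => twist_twist g π hσ hinv hπ c
  have hτmul : ∀ v w, τ (v * w) = τ v * τ w := twist_mul g π hinv
  -- the transport
  let E : (Fin n → K) ≃ₗ[K] ((j : ι) → AdjoinRoot (g j)) :=
    (Module.AEval'.of (Matrix.toLin' A)).trans (Ω.restrictScalars K)
  have hEA : ∀ v, E (A *ᵥ v) = (fun j => AdjoinRoot.root (g j)) * E v := by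
    intro v
    show Ω (Module.AEval'.of (Matrix.toLin' A) (Matrix.toLin' A v)) = _
    rw [← Module.AEval'.X_smul_of, map_smul]
    funext j
    exact Algebra.smul_def (A := K[X] ⧸ Ideal.span {g j}) (X : K[X]) _
  let L : ((j : ι) → AdjoinRoot (g j)) →ₗ[K] K := ∑ j, (top (hgm j)).comp (LinearMap.proj j)
  have hL : ∀ v, L v = ∑ j, top (hgm j) (v j) := fun v => by simp [L, LinearMap.sum_apply]
  let B : (Fin n → K) → (Fin n → K) → K := fun v w => L (E v * τ (E w))
  let C : Matrix (Fin n) (Fin n) K := LinearMap.toMatrix'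
    (LinearMap.pi fun a => L.comp ((LinearMap.mulRight K (τ (E (Pi.single a 1)))).comp (E : (Fin n → K) →ₗ[K] _)))
  have hC : ∀ v a, (C *ᵥ v) a = B v (Pi.single a 1) := fun v a => by
    rw [← Matrix.toLin'_apply, Matrix.toLin'_toMatrix']
    rfl
  have hB : ∀ v w, (σ ∘ w) ⬝ᵥ (C *ᵥ v) = B v w := by
    intro v w
    have hadd : ∀ w w', B v (w + w') = B v w + B v w' := fun w w' => by
      simp only [B, map_add, hτadd, mul_add]
    have hsm : ∀ (x : K) w, B v (x • w) = σ x * B v w := fun x w => by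
      simp only [B, map_smul, hτsmul, mul_smul_comm, smul_eq_mul]
    let φ : (Fin n → K) →+ K := AddMonoidHom.mk' (B v) hadd
    show _ = φ w
    conv_rhs => rw [← Finset.univ_sum_single w, map_sum]
    refine Finset.sum_congr rfl fun a _ => ?_
    rw [hC, show φ (Pi.single a (w a)) = B v (Pi.single a (w a)) from rfl,
      show (Pi.single a (w a) : Fin n → K) = w a • Pi.single a 1 by
        rw [← Pi.single_smul, smul_eq_mul, mul_one], hsm]
    rfl
  have hsandwich : ∀ (M N : Matrix (Fin n) (Fin n) K) (v w : Fin n → K),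
      (σ ∘ w) ⬝ᵥ ((cst σ M * C * N) *ᵥ v) = B (N *ᵥ v) (M *ᵥ w) := by
    intro M N v w
    rw [← hB, ← mulVec_mulVec, ← mulVec_mulVec, dotProduct_mulVec (σ ∘ w) (cst σ M), cst, vecMul_transpose]
    congr 1
    funext i
    simp [mulVec, dotProduct, map_sum]
  have hext : ∀ X Y : Matrix (Fin n) (Fin n) K,
      (∀ v w, (σ ∘ w) ⬝ᵥ (X *ᵥ v) = (σ ∘ w) ⬝ᵥ (Y *ᵥ v)) → X = Y := by
    intro X Y h
    refine Matrix.ext_of_mulVec_single fun b => funext fun a => ?_
    have := h (Pi.single b 1) (Pi.single a 1)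
    have hs : σ ∘ (Pi.single a (1 : K) : Fin n → K) = Pi.single a 1 := by
      funext k; by_cases hk : k = a <;> simp [hk]
    rwa [hs, single_one_dotProduct, single_one_dotProduct] at this
  have hCdet : C.det ≠ 0 := by
    intro h0
    obtain ⟨v, hv, hCv⟩ := Matrix.exists_mulVec_eq_zero_iff.2 h0
    refine hv (E.injective ?_)
    rw [map_zero]
    funext j
    refine top_nondegenerate (hgm j) fun x => ?_
    have h1 : L (E v * τ (τ (Pi.single j x))) = 0 := by
      have := hB v (E.symm (τ (Pi.single j x)))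
      simp only [B, LinearEquiv.apply_symm_apply] at this
      rw [← this, hCv, dotProduct_zero]
    rw [hττ, hL, Finset.sum_eq_single j] at h1
    · rwa [Pi.mul_apply, Pi.single_eq_same, mul_comm] at h1
    · intro k _ hk
      rw [Pi.mul_apply, Pi.single_eq_of_ne hk, mul_zero, map_zero]
    · intro h; exact absurd (Finset.mem_univ j) h
  -- block multipliers
  let mul : ((j : ι) → AdjoinRoot (g j)) → Matrix (Fin n) (Fin n) K := fun c => LinearMap.toMatrix'
    ((E.symm : _ →ₗ[K] (Fin n → K)) ∘ₗ LinearMap.mulLeft K c ∘ₗ (E : (Fin n → K) →ₗ[K] _))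
  have hmul : ∀ c v, E (mul c *ᵥ v) = c * E v := fun c v => by
    rw [← Matrix.toLin'_apply, Matrix.toLin'_toMatrix']
    simp
  have hmm : ∀ c c', mul (c * c') = mul c * mul c' := fun c c' => Matrix.ext_of_mulVec_single fun b =>
    E.injective (by rw [← mulVec_mulVec, hmul, hmul, hmul, mul_assoc])
  have hmA : mul (fun j => AdjoinRoot.root (g j)) = A := Matrix.ext_of_mulVec_single fun b =>
    E.injective (by rw [hmul, hEA])
  have hcomm : ∀ c c', Commute (mul c) (mul c') := fun c c' => by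
    show mul c * mul c' = mul c' * mul c
    rw [← hmm, ← hmm, mul_comm]
  have hadj : ∀ c, cst σ (mul c) * C = C * mul (τ c) := by
    intro c
    refine hext _ _ fun v w => ?_
    rw [← mul_one (cst σ (mul c) * C), hsandwich, one_mulVec, ← one_mul C, ← cst_one (σ := σ) (ι := Fin n),
      hsandwich, one_mulVec]
    show L (E v * τ (E (mul c *ᵥ w))) = L (E (mul (τ c) *ᵥ v) * τ (E w))
    rw [hmul, hmul, hτmul]
    congr 1
    ring
  have hAinv : cst σ A * C * A = C := by
    have : τ (fun j => AdjoinRoot.root (g j)) * (fun j => AdjoinRoot.root (g j)) = 1 :=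
      funext fun j => (mul_comm _ _).trans (root_mul_tau (hinv j))
    have h1 : mul 1 = 1 := Matrix.ext_of_mulVec_single fun b => E.injective (by rw [hmul, one_mulVec, one_mul])
    rw [← hmA, hadj, mul_assoc, ← hmm, this, h1, mul_one]
  -- the element of prescribed determinant
  obtain ⟨ω, hω⟩ := hne
  obtain ⟨x, hx⟩ := UnitaryDescent.exists_ratio σ hσ ω (isUnit_iff_ne_zero.2 (sub_ne_zero.2 (Ne.symm hω))) δ
    (by rw [mul_comm]; exact hδ)
  obtain ⟨f, hf⟩ := ClassNumberSL.exists_norm_pow (hd.1 j₀).1 (hd.1 j₀).2.1 (x : K)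
  let c : (j : ι) → AdjoinRoot (g j) := fun j => AdjoinRoot.mk (g j) (Function.update (fun _ => (1 : K[X])) j₀ f j)
  have hwdet : (mul c).det = (x : K) ^ e j₀ := by
    simp only [mul]
    rw [LinearMap.det_toMatrix']
    have h1 : LinearMap.det ((E.symm : _ →ₗ[K] (Fin n → K)) ∘ₗ LinearMap.mulLeft K c ∘ₗ
        (E : (Fin n → K) →ₗ[K] _)) = LinearMap.det (LinearMap.mulLeft K c) := by
      rw [← LinearMap.det_conj (LinearMap.mulLeft K c) E.symm, LinearEquiv.symm_symm]
    rw [h1]
    have h2 : ∀ j, LinearMap.det (LinearMap.mulLeft K (c j)) =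
        Algebra.norm K (AdjoinRoot.mk (P j) (Function.update (fun _ => (1 : K[X])) j₀ f j)) ^ e j := fun j => by
      rw [← norm_mk_pow (P j) (hd.1 j).1, Algebra.norm_apply]
      rfl
    have h3 : LinearMap.mulLeft K c =
        LinearMap.pi fun j => (LinearMap.mulLeft K (c j)).comp (LinearMap.proj j) := rfl
    rw [h3, det_piMap, Finset.prod_congr rfl fun j _ => h2 j, Finset.prod_eq_single j₀
      (fun k _ hk => by rw [Function.update_of_ne hk]; simp) (fun h => absurd (Finset.mem_univ j₀) h),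
      Function.update_self, hf]
  set w := mul c with hw
  set w' := mul (τ c) with hw'
  have hCu : IsUnit C.det := isUnit_iff_ne_zero.2 hCdet
  have hw'det : w'.det = σ ((x : K) ^ e j₀) := by
    have := congrArg Matrix.det (hadj c)
    rw [det_mul, det_mul, det_cst, ← hw, hwdet, mul_comm C.det] at this
    exact (mul_right_cancel₀ hCdet this).symm
  have hw'u : IsUnit w'.det := by
    rw [hw'det]; exact (isUnit_iff_ne_zero.2 (pow_ne_zero _ x.ne_zero)).map σ
  have hadj' : cst σ w' * C = C * w := by rw [hw', hadj, hττ]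
  obtain ⟨u, hu⟩ := (Matrix.isUnit_iff_isUnit_det _).2 hw'u
  set D := w * w'⁻¹ with hD
  have hDC : cst σ D * C * D = C := by
    have e1 : cst σ w * C = C * w' := hadj c
    have e2 : Commute w w'⁻¹ := by
      rw [← hu, ← Matrix.coe_units_inv]
      exact Commute.units_inv_right (hu.symm ▸ hcomm c (τ c))
    calc cst σ D * C * D = cst σ w'⁻¹ * (cst σ w * C) * (w * w'⁻¹) := by
          rw [hD, cst_mul]; simp only [mul_assoc]
      _ = cst σ w'⁻¹ * C * (w' * (w * w'⁻¹)) := by rw [e1]; simp only [mul_assoc]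
      _ = cst σ w'⁻¹ * (C * w) := by
          rw [e2.eq, ← mul_assoc w', mul_nonsing_inv _ hw'u, one_mul]; simp only [mul_assoc]
      _ = C := by rw [← hadj', ← mul_assoc, ← cst_mul, mul_nonsing_inv _ hw'u, cst_one, one_mul]
  have hDA : D * A = A * D := by
    have e1 : Commute A w := hmA ▸ hcomm _ c
    have e2 : Commute A w'⁻¹ := by
      rw [← hu, ← Matrix.coe_units_inv]
      exact Commute.units_inv_right (hu.symm ▸ hmA ▸ hcomm _ (τ c))
    exact ((e1.mul_right e2).eq).symm
  have hDdet : D.det = δ ^ e j₀ := by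
    rw [hD, det_mul, det_nonsing_inv, hw'det, hwdet, Ring.inverse_eq_inv', map_pow, ← inv_pow, ← mul_pow]
    congr 1
    have hσx : σ (x : K) ≠ 0 := by simpa using x.ne_zero
    rw [mul_inv_eq_iff_eq_mul₀ hσx, mul_comm]
    exact hx.symm
  -- make the form hermitian, then standard
  obtain ⟨H, hH, hHd, hHinv⟩ := UnitaryDescent.exists_hermitian_forall hσ ⟨ω, hω⟩ C hCdet
  obtain ⟨X, hX0, -, hX, -⟩ := exists_root hσ ⟨ω, hω⟩ H hH hHd
  have hXu : IsUnit X.det := isUnit_iff_ne_zero.2 hX0
  have hunit : ∀ M, cst σ M * C * M = C → cst σ (X * M * X⁻¹) * (X * M * X⁻¹) = 1 := by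
    intro M hM
    calc cst σ (X * M * X⁻¹) * (X * M * X⁻¹) = cst σ X⁻¹ * (cst σ M * (cst σ X * X) * M) * X⁻¹ := by
          rw [cst_mul, cst_mul]; simp only [mul_assoc]
      _ = cst σ X⁻¹ * cst σ X * (X * X⁻¹) := by rw [hX, hHinv M hM, ← hX]; simp only [mul_assoc]
      _ = 1 := by rw [← cst_mul, mul_nonsing_inv X hXu, cst_one, one_mul]
  obtain ⟨R, hR, hRA⟩ := exists_conj hσ ⟨ω, hω⟩ (X * A * X⁻¹) A X⁻¹ (hunit A hAinv) hA
    (by rw [det_nonsing_inv, Ring.inverse_eq_inv']; exact inv_ne_zero hX0)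
    (by rw [← mul_assoc, ← mul_assoc, nonsing_inv_mul X hXu, one_mul])
  have hR' : R * cst σ R = 1 := mul_eq_one_comm.1 hR
  refine ⟨R * (X * D * X⁻¹) * cst σ R, ?_, ?_, ?_⟩
  · rw [cst_mul, cst_mul, cst_cst σ hσ]
    calc _ = R * (cst σ (X * D * X⁻¹) * (cst σ R * R) * (X * D * X⁻¹)) * cst σ R := by simp only [mul_assoc]
      _ = 1 := by rw [hR, mul_one, hunit D hDC, mul_one, hR']
  · have e : A = R * (X * A * X⁻¹) * cst σ R := by rw [hRA, mul_assoc, hR', mul_one]
    have ex : ∀ M N, X * M * X⁻¹ * (X * N * X⁻¹) = X * (M * N) * X⁻¹ := fun M N => by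
      calc _ = X * M * (X⁻¹ * X) * N * X⁻¹ := by simp only [mul_assoc]
        _ = _ := by rw [nonsing_inv_mul X hXu, mul_one]; simp only [mul_assoc]
    have er : ∀ M N, R * M * cst σ R * (R * N * cst σ R) = R * (M * N) * cst σ R := fun M N => by
      calc _ = R * M * (cst σ R * R) * N * cst σ R := by simp only [mul_assoc]
        _ = _ := by rw [hR, mul_one]; simp only [mul_assoc]
    conv_lhs => arg 2; rw [e]
    conv_rhs => arg 1; rw [e]
    rw [er, er, ex, ex, hDA]
  · rw [det_mul_right_comm, det_mul, hR', det_one, one_mul, det_mul_right_comm, det_mul, mul_nonsing_inv X hXu,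
      det_one, one_mul, hDdet]

end Cfsg.Lib.ClassNumberSU
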