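import Cfsg.Agent.Known.DualPoly
import Mathlib

/-! Self-dual polynomials with prescribed constant term. -/

set_option autoImplicit false
set_option linter.style.haveILetI false

open Polynomial

namespace Cfsg.Lib.ClassNumberSU

open DualPoly

universe u

variable {K : Type u} [Field K]

theorem card_fixed [Finite K] {σ : K →+* K} {q : ℕ} (hK : Nat.card K = q ^ 2) (hσ : ∀ a, σ (σ a) = a)
    (hne : ∃ a, σ a ≠ a) {d : ℕ} {c : K} (hc : σ c * c = 1) :
    Nat.card {a : Fin d → K // ∀ i, c * σ (a i.rev) = a i} = q ^ d := by
  obtain ⟨ω, hω⟩ := hne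
  have hd : ω - σ ω ≠ 0 := sub_ne_zero.2 (Ne.symm hω)
  let T : (Fin d → K) → (Fin d → K) := fun a i => c * σ (a i.rev)
  have hTT : ∀ a, T (T a) = a := fun a => funext fun i => by
    simp only [T, Fin.rev_rev, map_mul, hσ, ← mul_assoc]
    rw [mul_comm c, hc, one_mul]
  let W := {a : Fin d → K // ∀ i, c * σ (a i.rev) = a i}
  have hW : ∀ a : W, T a.1 = a.1 := fun a => funext a.2
  let φ : W × W → (Fin d → K) := fun p i => p.1.1 i + ω * p.2.1 i
  have hφ : Function.Bijective φ := by
    have hTφ : ∀ p i, T (φ p) i = p.1.1 i + σ ω * p.2.1 i := fun p i => by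
      have h1 := congrFun (hW p.1) i
      have h2 := congrFun (hW p.2) i
      simp only [T, φ] at h1 h2 ⊢
      rw [map_add, map_mul, mul_add, mul_left_comm, h1, h2]
    constructor
    · intro p p' h
      have h2 : ∀ i, p.2.1 i = p'.2.1 i := fun i => by
        have e1 := hTφ p i
        rw [h, hTφ p' i] at e1
        have e2 := congrFun h i
        simp only [φ] at e2
        exact mul_left_cancel₀ hd (by linear_combination e2 + e1)
      have h1 : ∀ i, p.1.1 i = p'.1.1 i := fun i => by
        have e2 := congrFun h i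
        simp only [φ] at e2
        rw [h2 i] at e2
        exact add_right_cancel e2
      exact Prod.ext (Subtype.ext (funext h1)) (Subtype.ext (funext h2))
    · intro v
      let y : Fin d → K := fun i => (v i - T v i) * (ω - σ ω)⁻¹
      have hy : ∀ i, c * σ (y i.rev) = y i := fun i => by
        simp only [y, T, Fin.rev_rev, map_mul, map_sub, map_inv₀, hσ]
        rw [show σ ω - ω = -(ω - σ ω) by ring, inv_neg]
        linear_combination (v i * (ω - σ ω)⁻¹) * hc
      have hx : ∀ i, c * σ (v i.rev - ω * y i.rev) = v i - ω * y i := fun i => by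
        rw [map_sub, map_mul, mul_sub, mul_left_comm, hy i]
        have : (v i - T v i) = (ω - σ ω) * y i := by
          simp only [y]; field_simp
        simp only [T] at this
        linear_combination -this
      exact ⟨(⟨fun i => v i - ω * y i, hx⟩, ⟨y, hy⟩), funext fun i => by simp [φ]⟩
  have h := Nat.card_congr (Equiv.ofBijective φ hφ)
  rw [Nat.card_prod, Nat.card_pi, Finset.prod_const, Finset.card_univ, Fintype.card_fin, hK, ← pow_mul, mul_comm 2 d,
    pow_mul] at h
  exact Nat.pow_left_injective (by omega : 2 ≠ 0) (by simp only; rw [← h, sq])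

/-- Self-dual monic polynomials with a given constant term. -/
def SD (σ : K →+* K) (d : ℕ) (c : K) : Type u :=
  {f : K[X] // f.Monic ∧ f.natDegree = d + 1 ∧ f.coeff 0 = c ∧ dual σ f = f}

theorem card_SD [Finite K] {σ : K →+* K} {q : ℕ} (hK : Nat.card K = q ^ 2) (hσ : ∀ a, σ (σ a) = a)
    (hne : ∃ a, σ a ≠ a) {d : ℕ} {c : K} (hc : σ c * c = 1) :
    Finite (SD σ d c) ∧ Nat.card (SD σ d c) = q ^ d := by
  classical
  have hcinv : (σ c)⁻¹ = c := inv_eq_of_mul_eq_one_right hc
  let Φ : SD σ d c → {a : Fin d → K // ∀ i, c * σ (a i.rev) = a i} := fun f =>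
    ⟨fun i => f.1.coeff (i + 1), fun i => by
      have e : (dual σ f.1).coeff ((i : ℕ) + 1) = f.1.coeff ((i : ℕ) + 1) := by rw [f.2.2.2.2]
      rw [dual, coeff_C_mul, f.2.2.2.1, hcinv, coeff_reverse, coeff_map, natDegree_map,
        f.2.2.1, revAt_le (by omega)] at e
      refine Eq.trans ?_ e
      show c * σ (f.1.coeff ((i.rev : ℕ) + 1)) = _
      rw [Fin.val_rev, show d - ((i : ℕ) + 1) + 1 = d + 1 - ((i : ℕ) + 1) by omega]⟩
  have hΦ : Function.Bijective Φ := by
    constructor
    · intro f f' h
      refine Subtype.ext (Polynomial.ext fun k => ?_)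
      rcases k with _ | k
      · rw [f.2.2.2.1, f'.2.2.2.1]
      · rcases lt_trichotomy k d with hk | rfl | hk
        · exact congrFun (congrArg Subtype.val h) ⟨k, hk⟩
        · have h1 := f.2.1
          have h2 := f'.2.1
          rw [Monic, leadingCoeff, f.2.2.1] at h1
          rw [Monic, leadingCoeff, f'.2.2.1] at h2
          rw [h1, h2]
        · rw [coeff_eq_zero_of_natDegree_lt (by rw [f.2.2.1]; omega),
            coeff_eq_zero_of_natDegree_lt (by rw [f'.2.2.1]; omega)]
    · intro a
      let low : K[X] := ∑ i : Fin d, C (a.1 i) * X ^ ((i : ℕ) + 1) + C c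
      let f := X ^ (d + 1) + low
      have hlow : low.degree < ((d + 1 : ℕ) : WithBot ℕ) := by
        refine lt_of_le_of_lt (degree_add_le _ _) (max_lt ?_ ?_)
        · refine lt_of_le_of_lt (degree_sum_le _ _) ((Finset.sup_lt_iff (WithBot.bot_lt_coe _)).2 fun i _ => ?_)
          exact lt_of_le_of_lt (degree_C_mul_X_pow_le _ _) (by exact_mod_cast Nat.succ_lt_succ i.isLt)
        · exact lt_of_le_of_lt degree_C_le (by exact_mod_cast Nat.succ_pos d)
      have hm : f.Monic := monic_X_pow_add hlow
      have hd : f.natDegree = d + 1 := by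
        apply natDegree_eq_of_degree_eq_some
        rw [show f.degree = (X ^ (d + 1) : K[X]).degree from degree_add_eq_left_of_degree_lt (by rwa [degree_X_pow]),
          degree_X_pow]
      have hcoef : ∀ i : Fin d, f.coeff ((i : ℕ) + 1) = a.1 i := fun i => by
        simp only [f, low, coeff_add, coeff_X_pow, finset_sum_coeff, coeff_C_mul, coeff_C]
        rw [Finset.sum_eq_single i]
        · simp [i.isLt.ne]
        · intro j _ hj
          rw [if_neg (fun e => hj (Fin.ext (by omega))), mul_zero]
        · simp
      have hc0 : f.coeff 0 = c := by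
        simp only [f, low, coeff_add, coeff_X_pow, finset_sum_coeff, coeff_C_mul, coeff_C]
        rw [Finset.sum_eq_zero fun j _ => by simp]
        simp
      have hdual : dual σ f = f := by
        ext k
        rw [dual, coeff_C_mul, hc0, hcinv, coeff_reverse, coeff_map, natDegree_map, hd]
        rcases k with _ | k
        · rw [revAt_le (by omega), Nat.sub_zero, hc0]
          have := hm
          rw [Monic, leadingCoeff, hd] at this
          rw [this, map_one, mul_one]
        · rcases lt_trichotomy k d with hk | rfl | hk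
          · rw [revAt_le (by omega), hcoef ⟨k, hk⟩, ← a.2 ⟨k, hk⟩, ← hcoef]
            congr 3
            rw [Fin.val_rev]
            simp only
            omega
          · rw [revAt_le le_rfl, Nat.sub_self, hc0, mul_comm, hc]
            have := hm
            rw [Monic, leadingCoeff, hd] at this
            rw [this]
          · rw [revAt_eq_self_of_lt (by omega), coeff_eq_zero_of_natDegree_lt (by omega), map_zero, mul_zero]
      exact ⟨⟨f, hm, hd, hc0, hdual⟩, Subtype.ext (funext hcoef)⟩
  exact ⟨Finite.of_injective Φ hΦ.1, (Nat.card_congr (Equiv.ofBijective Φ hΦ)).trans (card_fixed hK hσ hne hc)⟩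

end Cfsg.Lib.ClassNumberSU
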