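import Mathlib

/-! Numerical bounds for the coefficients of the product `∏ (1 + t^i) / (1 - q t^i)`. -/

set_option autoImplicit false

namespace Cfsg.Lib.ClassNumberSU

/-- The number of self-dual monic polynomials of each degree. -/
def sdNum (q : ℕ) : ℕ → ℕ
  | 0 => 1
  | j + 1 => (q + 1) * q ^ j

/-- Degree patterns of weight `n`. -/
def pats (K n : ℕ) : Finset (Fin K → ℕ) :=
  (Fintype.piFinset fun _ : Fin K => Finset.range (n + 1)).filter fun k => ∑ i : Fin K, ((i : ℕ) + 1) * k i = n

theorem mem_pats {K n : ℕ} {k : Fin K → ℕ} : k ∈ pats K n ↔ ∑ i : Fin K, ((i : ℕ) + 1) * k i = n := by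
  rw [pats, Finset.mem_filter, Fintype.mem_piFinset]
  refine ⟨fun h => h.2, fun h => ⟨fun i => ?_, h⟩⟩
  rw [Finset.mem_range, Nat.lt_succ_iff]
  refine le_trans ?_ ((Finset.single_le_sum (f := fun i : Fin K => ((i : ℕ) + 1) * k i) (fun _ _ => Nat.zero_le _)
    (Finset.mem_univ i)).trans_eq h)
  exact Nat.le_mul_of_pos_left _ (by omega)

/-- The total weight of the patterns of weight `n`. -/
def total (q K n : ℕ) : ℕ := ∑ k ∈ pats K n, ∏ i, sdNum q (k i)

theorem total_succ_le (q K n : ℕ) :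
    total q (K + 1) n ≤ ∑ j ∈ Finset.range (n / (K + 1) + 1), sdNum q j * total q K (n - (K + 1) * j) := by
  classical
  have h1 : ∀ k ∈ pats (K + 1) n, k (Fin.last K) ∈ Finset.range (n / (K + 1) + 1) := by
    intro k hk
    rw [mem_pats] at hk
    rw [Finset.mem_range, Nat.lt_succ_iff, Nat.le_div_iff_mul_le (by omega)]
    refine le_trans (le_of_eq ?_) ((Finset.single_le_sum (f := fun i : Fin (K + 1) => ((i : ℕ) + 1) * k i)
      (fun _ _ => Nat.zero_le _) (Finset.mem_univ (Fin.last K))).trans_eq hk)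
    simp [mul_comm]
  rw [total, ← Finset.sum_fiberwise_of_maps_to h1]
  refine Finset.sum_le_sum fun j _ => ?_
  rw [total, Finset.mul_sum]
  have e : ∀ k ∈ (pats (K + 1) n).filter (fun k => k (Fin.last K) = j),
      ∏ i, sdNum q (k i) = sdNum q j * ∏ i : Fin K, sdNum q (k i.castSucc) := by
    intro k hk
    rw [Fin.prod_univ_castSucc, (Finset.mem_filter.1 hk).2, mul_comm]
  rw [Finset.sum_congr rfl e]
  refine le_trans (le_of_eq (Finset.sum_image (f := fun k : Fin K → ℕ => sdNum q j * ∏ i, sdNum q (k i))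
    (g := fun k : Fin (K + 1) → ℕ => fun i : Fin K => k i.castSucc) ?_).symm) (Finset.sum_le_sum_of_subset ?_)
  · intro k hk k' hk' h
    funext i
    refine Fin.lastCases ?_ (fun i => congrFun h i) i
    rw [(Finset.mem_filter.1 hk).2, (Finset.mem_filter.1 hk').2]
  · intro x hx
    obtain ⟨k, hk, rfl⟩ := Finset.mem_image.1 hx
    obtain ⟨hk1, hk2⟩ := Finset.mem_filter.1 hk
    rw [mem_pats] at hk1 ⊢
    rw [Fin.sum_univ_castSucc, hk2] at hk1
    simp only [Fin.val_castSucc, Fin.val_last] at hk1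
    omega

/-- The constants bounding the weights. -/
def coef (q : ℕ) : ℕ → ℚ
  | 0 => 1
  | 1 => 1 + 1 / q
  | K + 2 => coef q (K + 1) * ((1 + (1 / q) ^ (K + 2)) / (1 - (1 / q) ^ (K + 1)))

theorem coef_nonneg (q : ℕ) (hq : 2 ≤ q) : ∀ K, 0 ≤ coef q K
  | 0 => by simp [coef]
  | 1 => by simp only [coef]; positivity
  | K + 2 => by
    simp only [coef]
    refine mul_nonneg (coef_nonneg q hq (K + 1)) (div_nonneg (by positivity) ?_)
    rw [sub_nonneg]
    refine pow_le_one₀ (by positivity) ?_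
    rw [div_le_one (by positivity)]
    exact_mod_cast (by omega : 1 ≤ q)

theorem sdNum_cast (q j : ℕ) (hq : 1 ≤ q) : (sdNum q (j + 1) : ℚ) = (1 + 1 / (q : ℚ)) * (q : ℚ) ^ (j + 1) := by
  have : (q : ℚ) ≠ 0 := by exact_mod_cast (by omega : q ≠ 0)
  simp only [sdNum]
  push_cast
  field_simp
  ring

theorem total_le (q : ℕ) (hq : 2 ≤ q) : ∀ K n, (total q K n : ℚ) ≤ coef q K * (q : ℚ) ^ n
  | 0, n => by
    simp only [coef, one_mul]
    have : total q 0 n ≤ q ^ n := by
      rw [total]
      refine le_trans (Finset.sum_le_card_nsmul _ _ 1 (fun k _ => by simp)) ?_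
      rw [smul_eq_mul, mul_one]
      exact (Finset.card_le_one.2 fun a _ b _ => Subsingleton.elim a b).trans (Nat.one_le_pow _ _ (by omega))
    exact_mod_cast this
  | 1, n => by
    simp only [coef]
    have hq0 : (q : ℚ) ≠ 0 := by exact_mod_cast (by omega : q ≠ 0)
    have h : total q 1 n ≤ sdNum q n := by
      rw [total]
      calc _ ≤ (pats 1 n).card * sdNum q n := by
            refine Finset.sum_le_card_nsmul _ _ _ fun k hk => le_of_eq ?_
            rw [mem_pats] at hk
            simp at hk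
            simp [hk]
        _ ≤ 1 * sdNum q n := by
            refine Nat.mul_le_mul_right _ (Finset.card_le_one.2 fun a ha b hb => funext fun i => ?_)
            rw [mem_pats] at ha hb
            simp at ha hb
            rw [Subsingleton.elim i 0, ha, hb]
        _ = _ := one_mul _
    refine le_trans (Nat.cast_le.2 h) ?_
    rcases n with _ | n
    · simp [sdNum]
    · rw [sdNum_cast q n (by omega)]
  | K + 2, n => by
    have ih := total_le q hq (K + 1)
    set L := K + 1 with hL
    have hq0 : (0 : ℚ) < q := by exact_mod_cast (by omega : 0 < q)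
    have hq1 : (1 / (q : ℚ)) < 1 := by
      rw [div_lt_one hq0]; exact_mod_cast (by omega : 1 < q)
    set y : ℚ := 1 / (q : ℚ) with hy
    have hy0 : 0 < y := by positivity
    have hC := coef_nonneg q hq L
    have hx1 : y ^ L < 1 := pow_lt_one₀ hy0.le hq1 (by omega)
    have hgeom : ∀ m, ∑ j ∈ Finset.range m, (y ^ L) ^ (j + 1) ≤ y ^ L / (1 - y ^ L) := by
      intro m
      rw [le_div_iff₀ (by linarith)]
      have : (∑ j ∈ Finset.range m, (y ^ L) ^ (j + 1)) * (1 - y ^ L) = y ^ L * (1 - (y ^ L) ^ m) := by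
        induction m with
        | zero => simp
        | succ m ih => rw [Finset.sum_range_succ, add_mul, ih]; ring
      rw [this]
      have : 0 ≤ (y ^ L) ^ m := by positivity
      nlinarith [pow_pos hy0 L]
    have h := total_succ_le q L n
    rw [Finset.sum_range_succ'] at h
    have hterm : ∀ j ∈ Finset.range (n / (L + 1)), (sdNum q (j + 1) * total q L (n - (L + 1) * (j + 1)) : ℚ) ≤
        (1 + y) * coef q L * (q : ℚ) ^ n * (y ^ L) ^ (j + 1) := by
      intro j hj
      rw [Finset.mem_range] at hj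
      have hjn : (L + 1) * (j + 1) ≤ n := le_trans (Nat.mul_le_mul_left _ hj) (Nat.mul_div_le _ _)
      rw [sdNum_cast q j (by omega)]
      calc (1 + y) * (q : ℚ) ^ (j + 1) * (total q L (n - (L + 1) * (j + 1)) : ℚ)
          ≤ (1 + y) * (q : ℚ) ^ (j + 1) * (coef q L * (q : ℚ) ^ (n - (L + 1) * (j + 1))) :=
            mul_le_mul_of_nonneg_left (ih _) (by positivity)
        _ = _ := by
            have e : (q : ℚ) ^ n * (y ^ L) ^ (j + 1) = (q : ℚ) ^ (j + 1) * (q : ℚ) ^ (n - (L + 1) * (j + 1)) := by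
              rw [hy, ← pow_mul, one_div, inv_pow, ← div_eq_mul_inv, div_eq_iff (pow_ne_zero _ hq0.ne'), ← pow_add,
                ← pow_add]
              congr 1
              have : (L + 1) * (j + 1) = L * (j + 1) + (j + 1) := by ring
              omega
            linear_combination (-(1 + y) * coef q L) * e
    have h' : (total q (L + 1) n : ℚ) ≤
        (∑ j ∈ Finset.range (n / (L + 1)), (sdNum q (j + 1) * total q L (n - (L + 1) * (j + 1)) : ℚ)) +
          total q L n := by
      have := (Nat.cast_le (α := ℚ)).2 h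
      simpa [sdNum] using this
    show _ ≤ coef q L * ((1 + y ^ (L + 1)) / (1 - y ^ L)) * (q : ℚ) ^ n
    calc (total q (L + 1) n : ℚ)
        ≤ (∑ j ∈ Finset.range (n / (L + 1)), (1 + y) * coef q L * (q : ℚ) ^ n * (y ^ L) ^ (j + 1)) +
            coef q L * (q : ℚ) ^ n := h'.trans (add_le_add (Finset.sum_le_sum hterm) (ih n))
      _ ≤ (1 + y) * coef q L * (q : ℚ) ^ n * (y ^ L / (1 - y ^ L)) + coef q L * (q : ℚ) ^ n := by
          rw [← Finset.mul_sum]
          exact add_le_add (mul_le_mul_of_nonneg_left (hgeom _) (by positivity)) le_rfl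
      _ = _ := by
          have : (1 : ℚ) - y ^ L ≠ 0 := by linarith
          field_simp
          ring

theorem coef_le_of_base (q : ℕ) (hq : 2 ≤ q) (P : ℚ) (hP : 0 ≤ P) (K₀ : ℕ) (hK : 1 ≤ K₀)
    (hmono : ∀ K, 1 ≤ K → K ≤ K₀ → coef q K ≤ P)
    (h0 : coef q K₀ ≤ P * (1 - 3 * (1 / q) ^ K₀)) (K : ℕ) (hK1 : 1 ≤ K) : coef q K ≤ P := by
  have hq0 : (0 : ℚ) < q := by exact_mod_cast (by omega : 0 < q)
  set y : ℚ := 1 / (q : ℚ) with hy
  have hy0 : 0 < y := by positivity
  have hy2 : y ≤ 1 / 2 := by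
    rw [hy]
    exact one_div_le_one_div_of_le (by norm_num) (by exact_mod_cast hq)
  have inv : ∀ K, K₀ ≤ K → coef q K ≤ P * (1 - 3 * y ^ K) := by
    intro K hK'
    induction K, hK' using Nat.le_induction with
    | base => exact h0
    | succ K hKK ih =>
      obtain ⟨L, rfl⟩ := Nat.exists_eq_add_of_le' (hK.trans hKK)
      show coef q (L + 1) * ((1 + y ^ (L + 2)) / (1 - y ^ (L + 1))) ≤ _
      have hz : y ^ (L + 1) ≤ 1 / 2 := le_trans (pow_le_of_le_one hy0.le (by linarith) (by omega)) hy2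
      have hz0 : 0 < y ^ (L + 1) := pow_pos hy0 _
      rw [show y ^ (L + 1 + 1) = y * y ^ (L + 1) by ring]
      set z := y ^ (L + 1) with hzdef
      calc coef q (L + 1) * ((1 + y * z) / (1 - z)) ≤ P * (1 - 3 * z) * ((1 + y * z) / (1 - z)) :=
            mul_le_mul_of_nonneg_right ih (div_nonneg (by positivity) (by linarith))
        _ ≤ _ := by
            rw [mul_assoc]
            refine mul_le_mul_of_nonneg_left ?_ hP
            rw [mul_div_assoc', div_le_iff₀ (by linarith)]
            nlinarith [mul_pos hy0 hz0, mul_le_mul_of_nonneg_right hy2 hz0.le, mul_pos (mul_pos hy0 hz0) hz0]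
  rcases le_total K K₀ with h | h
  · exact hmono K hK1 h
  · refine (inv K h).trans ?_
    have : 0 ≤ P * (3 * y ^ K) := by positivity
    linarith

theorem coef_two (K : ℕ) (hK : 1 ≤ K) : coef 2 K ≤ 83 / 10 := by
  refine coef_le_of_base 2 le_rfl _ (by norm_num) 10 (by norm_num) (fun K h1 h2 => ?_) ?_ K hK
  · interval_cases K <;> norm_num [coef]
  · norm_num [coef]

theorem coef_three (K : ℕ) (hK : 1 ≤ K) : coef 3 K ≤ 3 := by
  refine coef_le_of_base 3 (by norm_num) _ (by norm_num) 3 (by norm_num) (fun K h1 h2 => ?_) ?_ K hK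
  · interval_cases K <;> norm_num [coef]
  · norm_num [coef]

theorem coef_ge_four (q : ℕ) (hq : 4 ≤ q) (K : ℕ) (hK : 1 ≤ K) : coef q K ≤ 5 / 2 := by
  have hq0 : (0 : ℚ) < q := by exact_mod_cast (by omega : 0 < q)
  have hy : 1 / (q : ℚ) ≤ 1 / 4 := one_div_le_one_div_of_le (by norm_num) (by exact_mod_cast hq)
  have hy0 : 0 < 1 / (q : ℚ) := by positivity
  have h1 : coef q 1 ≤ 5 / 2 := by simp only [coef]; linarith
  have h2 : coef q 2 ≤ 5 / 2 * (1 - 3 * (1 / (q : ℚ)) ^ 2) := by
    simp only [coef, pow_one]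
    rw [mul_div_assoc', div_le_iff₀ (by linarith)]
    nlinarith [mul_le_mul hy hy hy0.le (by norm_num), mul_pos hy0 hy0]
  refine coef_le_of_base q (by omega) _ (by norm_num) 2 (by norm_num) (fun K a b => ?_) h2 K hK
  interval_cases K
  · exact h1
  · refine h2.trans ?_
    nlinarith [mul_pos hy0 hy0]

end Cfsg.Lib.ClassNumberSU
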