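import Cfsg.Agent.Known.ClassNumberSU.Centraliser
import Cfsg.Agent.Known.ClassNumberSU.SelfDual
import Cfsg.Agent.Known.ClassNumberSU.Series
import Cfsg.Agent.Known.UnitaryGU
import Mathlib

/-! Counting the classes of the special unitary group. -/

set_option autoImplicit false
set_option linter.style.haveILetI false

open Polynomial Matrix

namespace Cfsg.Lib.ClassNumberSU

open ClassNumberGL DivisorDet UnitaryConj DualPoly ClassNumberSL

universe u

variable {K : Type u} [Field K]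

/-- The units of norm one. -/
def normOne (σ : K →+* K) : Subgroup Kˣ := (MonoidHom.id Kˣ * Units.map σ.toMonoidHom).ker

theorem mem_normOne {σ : K →+* K} {x : Kˣ} : x ∈ normOne σ ↔ σ (x : K) * x = 1 := by
  rw [normOne, MonoidHom.mem_ker, Units.ext_iff]
  simp [mul_comm]

theorem card_normOne [Finite K] {σ : K →+* K} {q : ℕ} (hK : Nat.card K = q ^ 2) (hσ : ∀ a, σ a = a ^ q) :
    Nat.card (normOne σ) = q + 1 := by
  classical
  letI := Fintype.ofFinite K
  have e : normOne σ = (powMonoidHom (q + 1) : Kˣ →* Kˣ).ker := by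
    ext x
    rw [mem_normOne, MonoidHom.mem_ker, powMonoidHom_apply, Units.ext_iff, Units.val_pow_eq_pow_val, Units.val_one,
      pow_succ, hσ]
  rw [e, IsCyclic.card_powMonoidHom_ker, Nat.card_units, hK]
  have : q ^ 2 - 1 = (q + 1) * (q - 1) := by rw [← Nat.sq_sub_sq]
  rw [this]
  exact Nat.gcd_mul_right_left _ _

/-- A common divisor of the exponents in a pattern and the order of the norm one group. -/
def patGcd (q : ℕ) {N : ℕ} (k : Fin N → ℕ) : ℕ :=
  Nat.gcd (q + 1) ((Finset.univ.filter fun i : Fin N => k i ≠ 0).gcd fun i => (i : ℕ) + 1)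

theorem patGcd_pos (q : ℕ) {N : ℕ} (k : Fin N → ℕ) : 0 < patGcd q k :=
  Nat.pos_of_dvd_of_pos (dvd_refl _) (Nat.gcd_pos_of_pos_left _ (by omega))

theorem index_le_patGcd {M : Type*} [CommGroup M] [IsCyclic M] [Finite M] (q : ℕ) (hM : Nat.card M = q + 1) {N : ℕ}
    (k : Fin N → ℕ) (H : Subgroup M) (hH : ∀ i : Fin N, k i ≠ 0 → ∀ x : M, x ^ ((i : ℕ) + 1) ∈ H) :
    H.index ≤ patGcd q k := by
  refine Nat.le_of_dvd (patGcd_pos q k) (Nat.dvd_gcd (hM ▸ H.index_dvd_card) (Finset.dvd_gcd fun i hi => ?_))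
  have hle : (powMonoidHom ((i : ℕ) + 1) : M →* M).range ≤ H := by
    rintro _ ⟨x, rfl⟩
    exact hH i (Finset.mem_filter.1 hi).2 x
  refine (Subgroup.index_dvd_of_le hle).trans ?_
  rw [IsCyclic.index_powMonoidHom_range]
  exact Nat.gcd_dvd_right _ _

variable [Finite K] {σ : K →+* K} {q : ℕ}

/-- Self-dual tuples of a given pattern and of determinant one. -/
def Tup1D (σ : K →+* K) {n : ℕ} (k : Fin n → ℕ) : Type u :=
  {G : Fin n → K[X] // (∀ i, (G i).Monic ∧ (G i).coeff 0 ≠ 0 ∧ dual σ (G i) = G i ∧ (G i).natDegree = k i) ∧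
    detTup G = 1}

theorem card_tup1D (hK : Nat.card K = q ^ 2) (hσ : ∀ a, σ a = a ^ q) (hσ2 : ∀ a, σ (σ a) = a)
    (hne : ∃ a, σ a ≠ a) {n : ℕ} (k : Fin n → ℕ) :
    Finite (Tup1D σ k) ∧ Nat.card (Tup1D σ k) * (q + 1) ≤ patGcd q k * ∏ i, sdNum q (k i) := by
  classical
  have hM := card_normOne hK hσ
  haveI : Finite (normOne σ) := inferInstance
  let M : Fin n → Subgroup (normOne σ) := fun i => if k i = 0 then ⊥ else ⊤
  let ψ : ((i : Fin n) → M i) →* normOne σ :=
    { toFun := fun v => ∏ i, (v i : normOne σ) ^ ((i : ℕ) + 1)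
      map_one' := by simp
      map_mul' := fun v w => by simp [mul_pow, Finset.prod_mul_distrib] }
  let S : (i : Fin n) → M i → Type u := fun i v =>
    {f : K[X] // f.Monic ∧ f.natDegree = k i ∧ sgnConst f = (((v : normOne σ) : Kˣ) : K) ∧ dual σ f = f}
  have hS : ∀ i v, Finite (S i v) ∧ Nat.card (S i v) ≤ q ^ (k i - 1) := by
    intro i v
    rcases Nat.eq_zero_or_pos (k i) with h0 | h0
    · haveI : Subsingleton (S i v) := ⟨fun f f' => Subtype.ext (by
        rw [f.2.1.natDegree_eq_zero.1 (f.2.2.1.trans h0), f'.2.1.natDegree_eq_zero.1 (f'.2.2.1.trans h0)])⟩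
      exact ⟨inferInstance, le_trans (Finite.card_le_one_iff_subsingleton.2 inferInstance) (by rw [h0]; simp)⟩
    · set c := (-1 : K) ^ k i * (((v : normOne σ) : Kˣ) : K) with hcdef
      have hc : σ c * c = 1 := by
        rw [hcdef, map_mul, map_pow, map_neg, map_one, mul_mul_mul_comm, ← mul_pow, neg_one_mul, neg_neg, one_pow,
          one_mul]
        exact mem_normOne.1 (v : normOne σ).2
      obtain ⟨hf, hcard⟩ := card_SD hK hσ2 hne (d := k i - 1) hc
      let f : S i v → SD σ (k i - 1) c := fun f => ⟨f.1, f.2.1, by rw [f.2.2.1]; omega, by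
        have h := f.2.2.2.1
        rw [sgnConst, f.2.2.1] at h
        calc f.1.coeff 0 = (-1 : K) ^ k i * ((-1 : K) ^ k i * f.1.coeff 0) := by
              rw [← mul_assoc, ← mul_pow, neg_one_mul, neg_neg, one_pow, one_mul]
          _ = c := by rw [h], f.2.2.2.2⟩
      have hfi : Function.Injective f := fun a b h => Subtype.ext (congrArg (fun x : SD σ (k i - 1) c => x.1) h)
      haveI := hf
      exact ⟨Finite.of_injective f hfi, (Nat.card_le_card_of_injective f hfi).trans_eq hcard⟩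
  haveI := fun i v => (hS i v).1
  have hmem : ∀ (G : Tup1D σ k) i, ∃ v : M i, sgnConst (G.1 i) = (((v : normOne σ) : Kˣ) : K) := by
    intro G i
    obtain ⟨hm, h0, hd, hdeg⟩ := G.2.1 i
    by_cases hk : k i = 0
    · refine ⟨1, ?_⟩
      rw [hm.natDegree_eq_zero.1 (hdeg.trans hk)]
      simp [sgnConst]
    · have hne0 : sgnConst (G.1 i) ≠ 0 := mul_ne_zero (pow_ne_zero _ (neg_ne_zero.2 one_ne_zero)) h0
      refine ⟨⟨⟨Units.mk0 _ hne0, mem_normOne.2 ?_⟩, by simp [M, hk]⟩, rfl⟩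
      have hc := dual_coeff_zero (σ := σ) hm
      rw [hd] at hc
      show σ (sgnConst (G.1 i)) * sgnConst (G.1 i) = 1
      rw [sgnConst, map_mul, map_pow, map_neg, map_one, mul_mul_mul_comm, ← mul_pow, neg_one_mul, neg_neg, one_pow,
        one_mul]
      conv_lhs => arg 2; rw [hc]
      exact mul_inv_cancel₀ (by simpa using h0)
  choose v hv using hmem
  have hker : ∀ G : Tup1D σ k, v G ∈ ψ.ker := by
    intro G
    rw [MonoidHom.mem_ker]
    apply Subtype.ext
    apply Units.ext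
    refine Eq.trans ?_ G.2.2
    show ((((∏ i, (v G i : normOne σ) ^ ((i : ℕ) + 1)) : normOne σ) : Kˣ) : K) = detTup G.1
    rw [SubmonoidClass.coe_finset_prod, Units.coe_prod]
    exact Finset.prod_congr rfl fun i _ => by
      rw [SubmonoidClass.coe_pow, Units.val_pow_eq_pow_val, hv]
  let Φ : Tup1D σ k → Σ u : ψ.ker, (i : Fin n) → S i (u.1 i) := fun G =>
    ⟨⟨v G, hker G⟩, fun i => ⟨G.1 i, (G.2.1 i).1, (G.2.1 i).2.2.2, hv G i, (G.2.1 i).2.2.1⟩⟩
  have hΦ : Function.Injective Φ := fun G G' h => Subtype.ext (funext fun i =>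
    congrArg (fun x : Σ u : ψ.ker, (i : Fin n) → S i (u.1 i) => (x.2 i).1) h)
  letI := Fintype.ofFinite ψ.ker
  haveI : Finite (Σ u : ψ.ker, (i : Fin n) → S i (u.1 i)) := inferInstance
  refine ⟨Finite.of_injective Φ hΦ, ?_⟩
  have hle : Nat.card (Tup1D σ k) ≤ Nat.card ψ.ker * ∏ i, q ^ (k i - 1) := by
    refine (Nat.card_le_card_of_injective Φ hΦ).trans ?_
    rw [Nat.card_sigma]
    refine (Finset.sum_le_card_nsmul _ _ (∏ i, q ^ (k i - 1)) fun u _ => ?_).trans_eq ?_
    · rw [Nat.card_pi]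
      exact Finset.prod_le_prod' fun i _ => (hS i _).2
    · rw [smul_eq_mul, Finset.card_univ, Nat.card_eq_fintype_card]
  have hpi : Nat.card ((i : Fin n) → M i) * ∏ i, q ^ (k i - 1) = ∏ i, sdNum q (k i) := by
    rw [Nat.card_pi, ← Finset.prod_mul_distrib]
    refine Finset.prod_congr rfl fun i _ => ?_
    rcases Nat.eq_zero_or_pos (k i) with h0 | h0
    · simp [M, h0, sdNum]
    · obtain ⟨j, hj⟩ := Nat.exists_eq_add_of_le' h0
      simp only [M, hj, Nat.add_one_ne_zero, if_false, Subgroup.card_top, hM, sdNum, Nat.add_sub_cancel]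
  have hidx : ψ.range.index ≤ patGcd q k := by
    refine index_le_patGcd q hM k _ fun i hi x => ⟨Pi.mulSingle i ⟨x, by simp [M, hi]⟩, ?_⟩
    simp only [ψ, MonoidHom.coe_mk, OneHom.coe_mk]
    rw [Finset.prod_eq_single i (fun j _ hj => by rw [Pi.mulSingle_eq_of_ne hj]; simp)
      (fun h => absurd (Finset.mem_univ i) h), Pi.mulSingle_eq_same]
  have hkr : Nat.card ψ.ker * (q + 1) ≤ patGcd q k * Nat.card ((i : Fin n) → M i) := by
    rw [← hM, ← ψ.range.card_mul_index, ← mul_assoc, ← Subgroup.index_ker, Subgroup.card_mul_index, mul_comm]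
    exact Nat.mul_le_mul_right _ hidx
  calc Nat.card (Tup1D σ k) * (q + 1) ≤ Nat.card ψ.ker * (∏ i, q ^ (k i - 1)) * (q + 1) := Nat.mul_le_mul_right _ hle
    _ = Nat.card ψ.ker * (q + 1) * ∏ i, q ^ (k i - 1) := by ring
    _ ≤ patGcd q k * Nat.card ((i : Fin n) → M i) * ∏ i, q ^ (k i - 1) := Nat.mul_le_mul_right _ hkr
    _ = _ := by rw [mul_assoc, hpi]

/-- The classes of `SU`, counted by self-dual tuples of determinant one. -/
theorem card_SU_le [Fintype K] (hK : Fintype.card K = q ^ 2) {n : ℕ} (hn : 0 < n) :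
    (q + 1) * Nat.card (ConjClasses (Cfsg.SU n K q)) ≤ ∑ k ∈ pats n n, patGcd q k ^ 2 * ∏ i, sdNum q (k i) := by
  classical
  set σ := Classical.powConj hK with hσdef
  have hK' : Nat.card K = q ^ 2 := by rw [Nat.card_eq_fintype_card, hK]
  have hσq : ∀ a, σ a = a ^ q := fun a => Classical.powConj_apply hK a
  have hσ2 : ∀ a, σ (σ a) = a := invol hK
  have hne := exists_moved hK
  let U := {A : Matrix (Fin n) (Fin n) K // cst σ A * A = 1}
  have hdet : ∀ A : U, A.1.det ≠ 0 := fun A => (Matrix.isUnit_det_of_left_inverse A.2).ne_zero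
  choose ι hι P e hP hsum Ω using fun A : U => exists_decomp A.1 (hdet A)
  have hdiv : ∀ A : U, IsDivisors n (P A) (e A) := fun A => ⟨hP A, hsum A⟩
  have hpair : ∀ A : U, ∃ π : ι A → ι A, (∀ j, π (π j) = j) ∧
      ∀ j, e A (π j) = e A j ∧ P A (π j) = dual σ (P A j) := fun A =>
    exists_pairing hσ2 A.1 A.2 (hdiv A) (Ω A).some
  choose π hπ hπ' using hpair
  let deg : U → (Fin n → ℕ) := fun A i => (tupOf n (P A) (e A) i).natDegree
  let T : U → (Fin n → K[X]) := fun A => tupOf n (P A) (e A)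
  have hdeg : ∀ A, deg A ∈ pats n n := fun A => mem_pats.2 (tupOf_mem (hdiv A)).2
  have hTdet : ∀ A : U, detTup (T A) = A.1.det := by
    intro A
    obtain ⟨M, -, hMd, hMA⟩ := exists_commuting (P A) (e A) (fun j => (hP A j).1) _ (Ω A).some (fun _ => X)
    rw [← sgnConst_tupOf (hdiv A), ← hMA fun _ => rfl, hMd]
    exact Finset.prod_congr rfl fun j _ => by rw [norm_mk_X _ (hP A j).1]; rfl
  -- determinants of centralisers
  have hcyc : IsCyclic (normOne σ) := inferInstance
  let D : U → Subgroup (normOne σ) := fun A =>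
    { carrier := {x | ∃ y : Matrix (Fin n) (Fin n) K, cst σ y * y = 1 ∧ y * A.1 = A.1 * y ∧ y.det = ((x : Kˣ) : K)}
      one_mem' := ⟨1, by rw [cst_one, one_mul], by rw [one_mul, mul_one], by simp⟩
      mul_mem' := by
        rintro a b ⟨y, h1, h2, h3⟩ ⟨z, k1, k2, k3⟩
        refine ⟨y * z, ?_, ?_, by rw [det_mul, h3, k3]; rfl⟩
        · rw [cst_mul, mul_assoc, ← mul_assoc (cst σ y), h1, one_mul, k1]
        · rw [mul_assoc, k2, ← mul_assoc, h2, mul_assoc]
      inv_mem' := by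
        rintro a ⟨y, h1, h2, h3⟩
        have h1' : y * cst σ y = 1 := mul_eq_one_comm.1 h1
        refine ⟨cst σ y, by rw [cst_cst σ hσ2, h1'], ?_, ?_⟩
        · calc cst σ y * A.1 = cst σ y * (A.1 * y) * cst σ y := by rw [mul_assoc, mul_assoc A.1, h1', mul_one]
            _ = cst σ y * (y * A.1) * cst σ y := by rw [h2]
            _ = A.1 * cst σ y := by rw [← mul_assoc (cst σ y), h1, one_mul]
        · rw [det_cst, h3, InvMemClass.coe_inv, Units.val_inv_eq_inv_val]
          exact eq_inv_of_mul_eq_one_left (mem_normOne.1 a.2) }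
  have hD : ∀ A, (D A).index ≤ patGcd q (deg A) := by
    intro A
    refine index_le_patGcd q (card_normOne hK' hσq) _ _ fun i hi x => ?_
    obtain ⟨j, hj⟩ : ∃ j, e A j = (i : ℕ) + 1 := by
      by_contra hne'
      apply hi
      show (tupOf n (P A) (e A) i).natDegree = 0
      rw [tupOf, Finset.filter_eq_empty_iff.2 fun j _ hj => hne' ⟨j, hj⟩]
      simp
    obtain ⟨y, h1, h2, h3⟩ := exists_det (π A) hσ2 hne hn A.1 A.2 (hdiv A) (Ω A).some (hπ A) (hπ' A) j
      ((x : Kˣ) : K) (mem_normOne.1 x.2)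
    exact ⟨y, h1, h2, by rw [h3, hj, SubmonoidClass.coe_pow, Units.val_pow_eq_pow_val]⟩
  -- elements of the special group
  let u : Cfsg.SU n K q → U := fun g => ⟨_, (mem_SU hK _).1 g.2⟩
  have hu1 : ∀ g, detTup (T (u g)) = 1 := fun g => (hTdet _).trans g.1.2
  let Tg : Cfsg.SU n K q → Σ k : pats n n, Tup1D σ k.1 := fun g => ⟨⟨deg (u g), hdeg _⟩, T (u g),
    fun i => ⟨((tupOf_mem (hdiv (u g))).1 i).1, ((tupOf_mem (hdiv (u g))).1 i).2,
      dual_tupOf (π (u g)) (hπ (u g)) (hπ' (u g)) i, rfl⟩, hu1 g⟩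
  let rep : Cfsg.SU n K q → U := fun g =>
    u (if h : ∃ g', Tg g' = Tg g then h.choose else g)
  have hrep : ∀ g, ∃ g', Tg g' = Tg g ∧ rep g = u g' := fun g => by
    have h : ∃ g', Tg g' = Tg g := ⟨g, rfl⟩
    exact ⟨h.choose, h.choose_spec, congrArg u (dif_pos h)⟩
  have hrep_eq : ∀ g g', Tg g = Tg g' → rep g = rep g' := by
    intro g g' h
    have h1 : ∃ x, Tg x = Tg g := ⟨g, rfl⟩
    have h2 : ∃ x, Tg x = Tg g' := ⟨g', rfl⟩
    simp only [rep, dif_pos h1, dif_pos h2]
    congr 1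
    have : ∀ a b (ha : ∃ x, Tg x = a) (hb : ∃ x, Tg x = b), a = b → ha.choose = hb.choose := by
      rintro a b ha hb rfl; rfl
    exact this _ _ h1 h2 h
  have hM : ∀ g, ∃ M : Matrix (Fin n) (Fin n) K, cst σ M * M = 1 ∧ M * (u g).1 = (rep g).1 * M := by
    intro g
    obtain ⟨g', hg', hr⟩ := hrep g
    have hTeq : T (u g) = T (u g') :=
      congrArg (fun x : Σ k : pats n n, Tup1D σ k.1 => x.2.1) hg'.symm
    have hc := isConj_of_tupOf_eq (Matrix.GeneralLinearGroup.mkOfDetNeZero _ (hdet (u g)))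
      (Matrix.GeneralLinearGroup.mkOfDetNeZero _ (hdet (u g'))) (hdiv _) (hdiv _) (Ω (u g)).some (Ω (u g')).some hTeq
    obtain ⟨c, hc⟩ := isConj_iff.1 hc
    rw [hr]
    refine exists_conj hσ2 hne _ _ (c : Matrix (Fin n) (Fin n) K) (u g).2 (u g').2
      (Matrix.GeneralLinearGroup.det_ne_zero c) ?_
    rw [mul_inv_eq_iff_eq_mul] at hc
    exact congrArg Units.val hc
  choose M hM1 hM2 using hM
  have hMd : ∀ g, ∃ x : normOne σ, ((x : Kˣ) : K) = (M g).det := by
    intro g
    have h := congrArg Matrix.det (hM1 g)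
    rw [det_mul, det_cst, det_one] at h
    exact ⟨⟨Units.mk0 _ (fun h0 => zero_ne_one (α := K) ((mul_eq_zero_of_right _ h0).symm.trans h)), mem_normOne.2 h⟩, rfl⟩
  choose δ hδ using hMd
  haveI : ∀ k : pats n n, Finite (Tup1D σ k.1) := fun k => (card_tup1D hK' hσq hσ2 hne k.1).1
  let Φ : ConjClasses (Cfsg.SU n K q) → Σ k : pats n n, Tup1D σ k.1 × Fin (patGcd q k.1) := fun C =>
    ⟨(Tg (Quotient.out C)).1, (Tg (Quotient.out C)).2,
      Fin.castLE (by
        obtain ⟨g', hg', hr⟩ := hrep (Quotient.out C)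
        rw [hr, ← hg']
        exact hD (u g')) (Finite.equivFinOfCardEq (α := normOne σ ⧸ D (rep (Quotient.out C))) rfl (δ (Quotient.out C)))⟩
  have hΦ : Function.Injective Φ := by
    intro C C' h
    rw [← Quotient.out_eq C, ← Quotient.out_eq C']
    simp only [Φ] at h
    generalize Quotient.out C = g at h ⊢
    generalize Quotient.out C' = g' at h ⊢
    apply Quotient.sound
    have hT : Tg g = Tg g' := by
      have h1 := congrArg (fun x : Σ k : pats n n, Tup1D σ k.1 × Fin (patGcd q k.1) =>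
        (⟨x.1, x.2.1⟩ : Σ k : pats n n, Tup1D σ k.1)) h
      exact h1
    have hval : (Finite.equivFinOfCardEq (α := normOne σ ⧸ D (rep g)) rfl (δ g) : ℕ) =
        Finite.equivFinOfCardEq (α := normOne σ ⧸ D (rep g')) rfl (δ g') :=
      congrArg (fun x : Σ k : pats n n, Tup1D σ k.1 × Fin (patGcd q k.1) => (x.2.2 : ℕ)) h
    have hrr := hrep_eq g g' hT
    have hq : ∀ A B : U, A = B → ∀ a b : normOne σ,
        (Finite.equivFinOfCardEq (α := normOne σ ⧸ D A) rfl a : ℕ) =
          Finite.equivFinOfCardEq (α := normOne σ ⧸ D B) rfl b → a⁻¹ * b ∈ D A := by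
      rintro A B rfl a b he
      exact QuotientGroup.eq.1 ((Finite.equivFinOfCardEq (α := normOne σ ⧸ D A) rfl).injective (Fin.ext he))
    obtain ⟨z, hz1, hz2, hz3⟩ := hq _ _ hrr _ _ hval
    set V := cst σ (M g') * z * M g with hV
    have hM' : M g' * cst σ (M g') = 1 := mul_eq_one_comm.1 (hM1 g')
    have hVu : cst σ V * V = 1 := by
      rw [hV, cst_mul, cst_mul, cst_cst σ hσ2]
      calc _ = cst σ (M g) * (cst σ z * (M g' * cst σ (M g')) * z) * M g := by simp only [mul_assoc]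
        _ = 1 := by rw [hM', mul_one, hz1, mul_one, hM1]
    have hVd : V.det = 1 := by
      rw [hV, det_mul, det_mul, det_cst, ← hδ g', hz3, Subgroup.coe_mul, Units.val_mul, ← hδ g]
      rw [InvMemClass.coe_inv, Units.val_inv_eq_inv_val]
      field_simp [(δ g : Kˣ).ne_zero]
      exact mem_normOne.1 (δ g').2
    have hVc : V * (u g).1 = (u g').1 * V := by
      calc V * (u g).1 = cst σ (M g') * z * (M g * (u g).1) := by rw [hV]; simp only [mul_assoc]
        _ = cst σ (M g') * (z * (rep g).1) * M g := by rw [hM2]; simp only [mul_assoc]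
        _ = cst σ (M g') * ((rep g).1 * (M g' * cst σ (M g')) * z) * M g := by rw [hz2, hM', mul_one]
        _ = cst σ (M g') * ((rep g').1 * M g') * (cst σ (M g') * z * M g) := by rw [hrr]; simp only [mul_assoc]
        _ = (cst σ (M g') * M g') * (u g').1 * V := by rw [← hM2, hV]; simp only [mul_assoc]
        _ = _ := by rw [hM1, one_mul]
    refine isConj_iff.2 ⟨⟨⟨V, hVd⟩, (mem_SU hK _).2 hVu⟩, mul_inv_eq_iff_eq_mul.2 (Subtype.ext (Subtype.ext ?_))⟩
    exact hVc
  have hcard := Nat.card_le_card_of_injective Φ hΦ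
  rw [Nat.card_sigma] at hcard
  refine (Nat.mul_le_mul_left _ hcard).trans ?_
  rw [Finset.mul_sum, ← Finset.sum_coe_sort (pats n n)]
  refine Finset.sum_le_sum fun k _ => ?_
  rw [Nat.card_prod, Nat.card_fin, ← mul_assoc, mul_comm (q + 1)]
  refine (Nat.mul_le_mul_right _ (card_tup1D hK' hσq hσ2 hne k.1).2).trans_eq ?_
  ring

end Cfsg.Lib.ClassNumberSU
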