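import Cfsg.Agent.Known.DivisorScaling
import Cfsg.Agent.Known.UnitaryConj
import Cfsg.Agent.Known.DualPoly
import Mathlib

/-! Elementary divisors of unitary matrices are permuted by duality. -/

set_option autoImplicit false
set_option linter.style.haveILetI false

open Polynomial Matrix

namespace Cfsg.Lib.ClassNumberSU

open ClassNumberGL DivisorScaling UnitaryConj DualPoly

universe u

variable {K : Type u} [Field K] {σ : K →+* K}

theorem cst_pow {m : Type*} [Fintype m] [DecidableEq m] (A : Matrix m m K) (k : ℕ) :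
    cst σ A ^ k = cst σ (A ^ k) := by
  induction k with
  | zero => rw [pow_zero, pow_zero, cst_one]
  | succ k ih => rw [pow_succ, ih, ← cst_mul, ← pow_succ']

theorem cst_aeval {m : Type*} [Fintype m] [DecidableEq m] (A : Matrix m m K) (f : K[X]) :
    cst σ (aeval A f) = aeval (cst σ A) (f.map σ) := by
  induction f using Polynomial.induction_on' with
  | add s t hs ht => rw [map_add, cst_add, hs, ht, Polynomial.map_add, map_add]
  | monomial k c =>
    rw [aeval_monomial, map_monomial, aeval_monomial, ← Algebra.smul_def, ← Algebra.smul_def, cst_smul, cst_pow]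

theorem aeval_reverse {R : Type*} [Ring R] [Algebra K R] (A B : R) (h : B * A = 1) (hc : Commute A B) (f : K[X]) :
    aeval B f * A ^ f.natDegree = aeval A f.reverse := by
  have hd := f.reverse_natDegree_le
  rw [aeval_eq_sum_range' (n := f.natDegree + 1) (by omega), aeval_eq_sum_range' (n := f.natDegree + 1) (by omega),
    ← Finset.sum_range_reflect (fun i => f.reverse.coeff i • A ^ i), Finset.sum_mul]
  refine Finset.sum_congr rfl fun i hi => ?_
  rw [Finset.mem_range] at hi
  simp only [Nat.add_sub_cancel]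
  rw [coeff_reverse, revAt_le (Nat.sub_le _ _), Nat.sub_sub_self (by omega), smul_mul_assoc]
  congr 1
  conv_lhs => rw [show f.natDegree = i + (f.natDegree - i) by omega, pow_add, ← mul_assoc,
    ← hc.symm.mul_pow, h, one_pow, one_mul]

section Rank

variable [Fintype K] {n : ℕ}

theorem card_range_mulVec (M : Matrix (Fin n) (Fin n) K) :
    Nat.card (Set.range fun v => M *ᵥ v) = Fintype.card K ^ M.rank := by
  rw [Matrix.rank, ← Nat.card_eq_fintype_card (α := K), ← Module.natCard_eq_pow_finrank (K := K)]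
  rfl

theorem rank_cst (hσ : ∀ a, σ (σ a) = a) (M : Matrix (Fin n) (Fin n) K) : (cst σ M).rank = M.rank := by
  rw [cst, rank_transpose]
  apply Nat.pow_right_injective (Fintype.one_lt_card (α := K))
  simp only
  rw [← card_range_mulVec, ← card_range_mulVec]
  have hm : ∀ v : Fin n → K, σ ∘ (M *ᵥ v) = M.map σ *ᵥ (σ ∘ v) := fun v => by
    funext i
    simp [mulVec, dotProduct, map_sum]
  let E : (Fin n → K) ≃ (Fin n → K) :=
    ⟨fun v => σ ∘ v, fun v => σ ∘ v, fun v => funext fun i => hσ _, fun v => funext fun i => hσ _⟩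
  refine (Nat.card_congr ((Equiv.Set.image E _ E.injective).trans (Equiv.setCongr ?_))).symm
  ext y
  constructor
  · rintro ⟨_, ⟨v, rfl⟩, rfl⟩
    exact ⟨σ ∘ v, (hm v).symm⟩
  · rintro ⟨v, rfl⟩
    refine ⟨_, ⟨σ ∘ v, rfl⟩, ?_⟩
    show σ ∘ (M *ᵥ (σ ∘ v)) = M.map σ *ᵥ v
    rw [hm]
    congr 1
    exact funext fun i => hσ _

theorem imageCard_dual (hσ : ∀ a, σ (σ a) = a) (A : Matrix (Fin n) (Fin n) K) (hA : cst σ A * A = 1)
    (f : K[X]) (h0 : f.coeff 0 ≠ 0) : imageCard A (dual σ f) = imageCard A f := by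
  have hA' : A * cst σ A = 1 := mul_eq_one_comm.1 hA
  have hd : IsUnit (A ^ f.natDegree).det := by
    rw [det_pow]
    exact (Matrix.isUnit_det_of_left_inverse hA).pow _
  have e : aeval A (dual σ f) = aeval A (C (σ (f.coeff 0))⁻¹) * (cst σ (aeval A f) * A ^ f.natDegree) := by
    rw [dual, map_mul, cst_aeval, ← natDegree_map σ, aeval_reverse A (cst σ A) hA (hA'.trans hA.symm)]
  rw [imageCard, imageCard, card_range_mulVec, card_range_mulVec, e, rank_mul_eq_right_of_isUnit_det,
    rank_mul_eq_left_of_isUnit_det _ _ hd, rank_cst hσ]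
  rw [aeval_C, Matrix.algebraMap_eq_diagonal, det_diagonal]
  refine isUnit_iff_ne_zero.2 (Finset.prod_ne_zero_iff.2 fun i _ => ?_)
  simpa using h0

theorem dual_pow (f : K[X]) (s : ℕ) : dual σ (f ^ s) = dual σ f ^ s := by
  induction s with
  | zero => rw [pow_zero, pow_zero, dual_C_one]
  | succ s ih => rw [pow_succ, pow_succ, dual_mul, ih]

/-- The elementary divisors of a unitary matrix, paired by duality. -/
theorem exists_pairing (hσ : ∀ a, σ (σ a) = a) (A : Matrix (Fin n) (Fin n) K) (hA : cst σ A * A = 1)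
    {ι : Type u} [Fintype ι] {P : ι → K[X]} {e : ι → ℕ} (h : IsDivisors n P e)
    (Ω : Module.AEval' (Matrix.toLin' A) ≃ₗ[K[X]] ((j : ι) → K[X] ⧸ Ideal.span {P j ^ e j})) :
    ∃ π : ι → ι, (∀ j, π (π j) = j) ∧ ∀ j, e (π j) = e j ∧ P (π j) = dual σ (P j) := by
  classical
  have hP0 : ∀ j, (P j).coeff 0 ≠ 0 := fun j => (h.1 j).2.2.1
  let key : ι → ℕ × K[X] := fun j => (e j, P j)
  let cnt : K[X] → ℕ → ℕ := fun p s => (Finset.univ.filter fun j => P j = p ∧ s < e j).card
  have hgt : ∀ p : K[X], p.Monic → Irreducible p → p.coeff 0 ≠ 0 → ∀ s, cnt p s = cnt (dual σ p) s := by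
    intro p hp hi h0 s
    have hE : ∀ s, ∑ j, (if P j = p then e j - s else e j) * (P j).natDegree =
        ∑ j, (if P j = dual σ p then e j - s else e j) * (P j).natDegree := by
      intro s
      apply Nat.pow_right_injective (Fintype.one_lt_card (α := K))
      simp only
      rw [← imageCard_pow h A Ω hp hi s, ← imageCard_pow h A Ω (dual_monic h0) (dual_irreducible hσ hp hi h0) s,
        ← dual_pow, imageCard_dual hσ A hA]
      rw [coeff_zero_eq_eval_zero, eval_pow, ← coeff_zero_eq_eval_zero]
      exact pow_ne_zero _ h0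
    have hdiff : ∀ p' : K[X], p'.natDegree = p.natDegree →
        (∑ j, (if P j = p' then e j - (s + 1) else e j) * (P j).natDegree) + p.natDegree * cnt p' s =
        ∑ j, (if P j = p' then e j - s else e j) * (P j).natDegree := by
      intro p' hd
      simp only [cnt]
      rw [Finset.card_filter, Finset.mul_sum, ← Finset.sum_add_distrib]
      refine Finset.sum_congr rfl fun j _ => ?_
      by_cases hj : P j = p'
      · rw [if_pos hj, if_pos hj, hj, hd]
        by_cases hs : s < e j
        · rw [if_pos ⟨rfl, hs⟩, show e j - s = e j - (s + 1) + 1 by omega]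
          ring
        · rw [if_neg (fun hh => hs hh.2), mul_zero, add_zero, show e j - (s + 1) = e j - s by omega]
      · rw [if_neg hj, if_neg hj, if_neg (fun hh => hj hh.1), mul_zero, add_zero]
    have h1 := hdiff p rfl
    have h2 := hdiff (dual σ p) (dual_natDegree h0)
    rw [hE (s + 1), hE s, ← h2] at h1
    exact Nat.eq_of_mul_eq_mul_left hi.natDegree_pos (Nat.add_left_cancel h1)
  let key' : ι → ℕ × K[X] := fun j => (e j, dual σ (P j))
  have hfib : ∀ j, Nat.card {i // key i = key j} = Nat.card {i // key i = key' j} := by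
    intro j
    have hone : ∀ p : K[X], Nat.card {i // key i = (e j, p)} + cnt p (e j) = cnt p (e j - 1) := by
      intro p
      rw [Nat.card_eq_fintype_card, Fintype.card_subtype, Finset.card_filter]
      simp only [cnt, Finset.card_filter, ← Finset.sum_add_distrib]
      refine Finset.sum_congr rfl fun i _ => ?_
      have := (h.1 j).2.2.2
      simp only [key, Prod.mk.injEq]
      by_cases hi : P i = p
      · simp only [hi, and_true, true_and]
        split_ifs <;> omega
      · simp [hi]
    have h1 := hone (P j)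
    have h2 := hone (dual σ (P j))
    rw [hgt _ (h.1 j).1 (h.1 j).2.1 (hP0 j), hgt _ (h.1 j).1 (h.1 j).2.1 (hP0 j) (e j - 1)] at h1
    show Nat.card {i // key i = (e j, P j)} = Nat.card {i // key i = (e j, dual σ (P j))}
    omega
  let r : ι → ℕ := fun j => (Finite.equivFin {i // key i = key j} ⟨j, rfl⟩ : ℕ)
  have hr : ∀ a b, key a = key b → r a = r b → a = b := by
    intro a b hab hr
    have gen : ∀ (x : ℕ × K[X]) (ha : key a = x) (hb : key b = x),
        (Finite.equivFin {i // key i = x} ⟨a, ha⟩ : ℕ) = (Finite.equivFin {i // key i = x} ⟨b, hb⟩ : ℕ) → a = b :=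
      fun x ha hb e' => congrArg Subtype.val ((Finite.equivFin {i // key i = x}).injective (Fin.ext e'))
    refine gen (key b) hab rfl (Eq.trans ?_ hr)
    have : ∀ (x : ℕ × K[X]) (ha : key a = x), (Finite.equivFin {i // key i = x} ⟨a, ha⟩ : ℕ) = r a := by
      intro x ha
      subst ha
      rfl
    exact this _ _
  have hex : ∀ j, ∃ i, key i = key' j ∧ r i = r j := by
    intro j
    have hlt : r j < Nat.card {i // key i = key' j} := by rw [← hfib]; exact (Finite.equivFin _ _).isLt
    set y := (Finite.equivFin {i // key i = key' j}).symm ⟨r j, hlt⟩ with hy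
    refine ⟨y.1, y.2, ?_⟩
    have : ∀ (x : ℕ × K[X]) (z : {i // key i = x}), r z.1 = (Finite.equivFin {i // key i = x} z : ℕ) := by
      rintro x ⟨z, hz⟩
      subst hz
      rfl
    rw [this _ y, hy, Equiv.apply_symm_apply]
  choose π hπ hπr using hex
  have hπ1 : ∀ j, e (π j) = e j ∧ P (π j) = dual σ (P j) := fun j => Prod.ext_iff.1 (hπ j)
  refine ⟨π, fun j => hr _ _ ?_ ((hπr _).trans (hπr j)), hπ1⟩
  refine Prod.ext ((hπ1 _).1.trans (hπ1 j).1) ?_
  show P (π (π j)) = P j
  rw [(hπ1 _).2, (hπ1 j).2, dual_dual hσ (h.1 j).1 (hP0 j)]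

omit [Fintype K] in
/-- The tuple of paired divisors consists of self-dual polynomials. -/
theorem dual_tupOf {ι : Type u} [Fintype ι] {P : ι → K[X]} {e : ι → ℕ} (π : ι → ι) (hπ : ∀ j, π (π j) = j)
    (hπ' : ∀ j, e (π j) = e j ∧ P (π j) = dual σ (P j)) (i : Fin n) :
    dual σ (tupOf n P e i) = tupOf n P e i := by
  classical
  rw [tupOf, dual_prod, Multiset.map_map]
  show ∏ j ∈ Finset.univ.filter (fun j => e j = (i : ℕ) + 1), dual σ (P j) =
    ∏ j ∈ Finset.univ.filter (fun j => e j = (i : ℕ) + 1), P j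
  refine Finset.prod_nbij' π π ?_ ?_ (fun j _ => hπ j) (fun j _ => hπ j) fun j _ => (hπ' j).2.symm
  · intro j hj
    simp only [Finset.mem_coe, Finset.mem_filter, Finset.mem_univ, true_and] at hj ⊢
    rw [(hπ' j).1, hj]
  · intro j hj
    simp only [Finset.mem_coe, Finset.mem_filter, Finset.mem_univ, true_and] at hj ⊢
    rw [(hπ' j).1, hj]

end Rank

end Cfsg.Lib.ClassNumberSU
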